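import Cfsg.Agent.H86.FourSizes.Powers
import Cfsg.Agent.H20.Abelian
import Cfsg.Agent.H25.Burnside
import Cfsg.Agent.H27.SmallDegree
import Cfsg.Agent.S4034

/-!
# Class sizes `1`, `q^a`, `p^b`, `q^a p^b`: elements of index `p^b` lie in the `q`-core
-/

set_option linter.style.haveILetI false

namespace Cfsg.Agent.H86.FourSizes

open Subgroup
open scoped Pointwise commutatorElement
open Cfsg.Agent.H89 (cz IsPEl IsSylowIn mem_cz self_mem_cz mem_cz_comm cz_mul)

variable {G : Type*} [Group G] [Finite G]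

/-- A subgroup containing a Sylow subgroup of `M` for each prime is `M`. -/
theorem eq_of_forall_isSylowIn {S M : Subgroup G} (hle : S ≤ M)
    (h : ∀ r : ℕ, r.Prime → ∃ R, IsSylowIn r R M ∧ R ≤ S) : S = M := by
  refine Subgroup.eq_of_le_of_card_ge hle (Nat.le_of_dvd Nat.card_pos ?_)
  refine (Nat.factorization_le_iff_dvd Nat.card_pos.ne' Nat.card_pos.ne').mp fun r => ?_
  by_cases hr : r.Prime
  · obtain ⟨R, hR, hRS⟩ := h r hr
    have h1 : r ^ (Nat.card M).factorization r ∣ Nat.card S := hR.2 ▸ card_dvd_of_le hRS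
    exact (hr.pow_dvd_iff_le_factorization Nat.card_pos.ne').mp h1
  · simp [Nat.factorization_eq_zero_of_not_prime _ hr]

/-- Both indices are prime powers. -/
structure PowData (G : Type*) [Group G] (n m p q a b : ℕ) (x y : G) : Prop where
  caseB : CaseB G n m
  pair : IsPair G n m p q x y
  n_eq : n = q ^ a
  m_eq : m = p ^ b

variable {n m p q a b : ℕ} {x y : G}

omit [Finite G] in
theorem PowData.symm (h : PowData G n m p q a b x y) : PowData G m n q p b a y x :=
  ⟨h.caseB.symm, h.pair.symm, h.m_eq, h.n_eq⟩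

theorem PowData.p_dvd (h : PowData G n m p q a b x y) : p ∣ m :=
  haveI := Fact.mk h.pair.prime_p
  h.caseB.dvd_m h.pair.pel_x h.pair.index_x

omit [Finite G] in
theorem PowData.not_p_dvd (h : PowData G n m p q a b x y) : ¬ p ∣ n :=
  h.caseB.no_n p x h.pair.prime_p h.pair.pel_x h.pair.index_x

/-- Elements of the other primes are central. -/
theorem PowData.mem_center (h : PowData G n m p q a b x y) {r : ℕ} (hr : r.Prime) (hrp : r ≠ p)
    (hrq : r ≠ q) {u : G} (hu : IsPEl r u) : u ∈ center G := by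
  haveI := Fact.mk hr
  obtain ⟨R, hR⟩ := hu.isPGroup_zpowers.exists_le_sylow
  refine H89.le_center_of_not_vertex R (fun g hd => ?_) (hR (mem_zpowers u))
  rcases hr.dvd_mul.mp (hd.trans (h.caseB.toFour.index_dvd g)) with e | e
  · exact hrq ((Nat.prime_dvd_prime_iff_eq hr h.pair.prime_q).mp (hr.dvd_of_dvd_pow (h.n_eq ▸ e)))
  · exact hrp ((Nat.prime_dvd_prime_iff_eq hr h.pair.prime_p).mp (hr.dvd_of_dvd_pow (h.m_eq ▸ e)))

/-- The group is solvable. -/
theorem PowData.isSolvable (h : PowData G n m p q a b x y) : Group.IsSolvable G := by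
  have hp := h.pair.prime_p
  have hq := h.pair.prime_q
  have hpq := h.pair.ne h.caseB
  have hquot : Group.IsSolvable (G ⧸ center G) := by
    refine H25.isSolvable_of_card_eq_mul_pow (p := p) (q := q)
      (a := (Nat.card (G ⧸ center G)).factorization p)
      (b := (Nat.card (G ⧸ center G)).factorization q) hp hq ?_
    apply Nat.eq_of_factorization_eq Nat.card_pos.ne'
      (mul_ne_zero (pow_ne_zero _ hp.ne_zero) (pow_ne_zero _ hq.ne_zero))
    intro r
    rw [Nat.factorization_mul (pow_ne_zero _ hp.ne_zero) (pow_ne_zero _ hq.ne_zero),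
      Finsupp.add_apply, hp.factorization_pow, hq.factorization_pow]
    by_cases hrp : r = p
    · subst hrp; simp [hpq]
    by_cases hrq : r = q
    · subst hrq; simp [Ne.symm hpq]
    simp only [Finsupp.single_eq_of_ne hrp, Finsupp.single_eq_of_ne hrq, add_zero]
    by_cases hr : r.Prime
    · haveI := Fact.mk hr
      refine Nat.factorization_eq_zero_of_not_dvd fun hd => ?_
      obtain ⟨R⟩ := (inferInstance : Nonempty (Sylow r G))
      rw [← index_eq_card] at hd
      exact R.not_dvd_index (hd.trans (index_dvd_of_le fun u hu =>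
        h.mem_center hr hrp hrq (IsPEl.of_mem R.2 hu)))
    · exact Nat.factorization_eq_zero_of_not_prime _ hr
  haveI : Group.IsSolvable (center G) :=
    Group.isSolvable_of_comm fun c d => Subtype.ext (mem_center_iff.mp d.2 c)
  exact Group.isSolvable_of_ker_le_range (center G).subtype (QuotientGroup.mk' (center G)) (by simp)

/-- The `p`-subgroups of `cz y` are abelian. -/
theorem PowData.commute_of_le (h : PowData G n m p q a b x y) {R : Subgroup G} (hR : IsPGroup p R)
    (hRL : R ≤ cz y) {u v : G} (hu : u ∈ R) (hv : v ∈ R) : Commute u v := by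
  haveI := Fact.mk h.pair.prime_p
  have hpq := h.pair.ne h.caseB
  obtain ⟨A, hA, hAq, k, hk⟩ := (S4034.result (G := cz y) h.pair.prime_q).mp fun g hg => by
    rw [H86.ncard_carrier_eq_index, index_centralizer_subgroupOf]
    obtain ⟨i, hi⟩ := h.pair.pel_y
    rcases h.caseB.toFour.symm.relIndex_of_n h.pair.index_y g.2
      (by rw [hi, orderOf_coe]; exact (hg.symm.pow_left i)) with e | e
    · exact ⟨0, by rw [e, pow_zero]⟩
    · exact ⟨a, by rw [e, h.n_eq]⟩
  obtain ⟨SA⟩ := (inferInstance : Nonempty (Sylow p A))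
  have hnd : ¬ p ∣ ((SA : Subgroup A).map A.subtype).index := by
    rw [index_map_subtype, hk]
    intro hd
    rcases h.pair.prime_p.dvd_mul.mp hd with e | e
    · exact SA.not_dvd_index e
    · exact hpq ((Nat.prime_dvd_prime_iff_eq h.pair.prime_p h.pair.prime_q).mp
        (h.pair.prime_p.dvd_of_dvd_pow e))
  obtain ⟨T, hT⟩ := (hR.of_equiv (subgroupOfEquivOfLe hRL).symm).exists_le_sylow
  obtain ⟨c, hc⟩ := MulAction.exists_smul_eq (cz y) ((SA.2.map A.subtype).toSylow hnd) T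
  have hmem : ∀ g ∈ R, ∀ hg : g ∈ cz y, c⁻¹ * (⟨g, hg⟩ : cz y) * c ∈ A := by
    intro g hgR hg
    have h1 : (⟨g, hg⟩ : cz y) ∈ (T : Subgroup (cz y)) := hT hgR
    rw [← hc, Sylow.coe_subgroup_smul, H86.mem_conj_smul_iff] at h1
    exact map_subtype_le _ h1
  have h2 := congrArg Subtype.val (hA.is_comm.comm ⟨_, hmem u hu (hRL hu)⟩ ⟨_, hmem v hv (hRL hv)⟩)
  have h3 : c⁻¹ * (⟨u, hRL hu⟩ : cz y) * c * (c⁻¹ * ⟨v, hRL hv⟩ * c) =
      c⁻¹ * (⟨v, hRL hv⟩ : cz y) * c * (c⁻¹ * ⟨u, hRL hu⟩ * c) := h2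
  have h4 : (⟨u, hRL hu⟩ : cz y) * ⟨v, hRL hv⟩ = (⟨v, hRL hv⟩ : cz y) * ⟨u, hRL hu⟩ := by
    calc (⟨u, hRL hu⟩ : cz y) * ⟨v, hRL hv⟩
        = c * (c⁻¹ * (⟨u, hRL hu⟩ : cz y) * c * (c⁻¹ * ⟨v, hRL hv⟩ * c)) * c⁻¹ := by group
      _ = c * (c⁻¹ * (⟨v, hRL hv⟩ : cz y) * c * (c⁻¹ * ⟨u, hRL hu⟩ * c)) * c⁻¹ := by rw [h3]
      _ = _ := by group
  exact congrArg Subtype.val h4

/-- If `x` lies in the `p`-core, `y` lies in the `q`-core. -/
theorem PowData.mem_qCore (h : PowData G n m p q a b x y) (hxU : x ∈ Cfsg.pCore p G) :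
    y ∈ Cfsg.pCore q G := by
  haveI := Fact.mk h.pair.prime_p
  haveI := Fact.mk h.pair.prime_q
  haveI := h.isSolvable
  have hB := h.caseB
  have P := h.pair
  have hp := P.prime_p
  have hq := P.prime_q
  have hpq := P.ne hB
  have hqn : q ∣ n := h.symm.p_dvd
  have hqm : ¬ q ∣ m := h.symm.not_p_dvd
  have hpm : p ∣ m := h.p_dvd
  set U := Cfsg.pCore p G with hU_def
  haveI hUn : U.Normal := H19.pCore_normal p G
  have hUp : IsPGroup p U := H19.pCore_isPGroup p
  obtain ⟨Sx, hSx, hxSx, hSxx⟩ := exists_sylow_central (r := p) (g := x)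
    (P.index_x ▸ h.not_p_dvd) P.pel_x
  have hUle : ∀ S : Subgroup G, IsSylowIn p S ⊤ → U ≤ S := fun S hS =>
    (hS.eq_of_le (hUp.to_sup_of_normal_left hS.isPGroup) le_sup_right le_top).ge.trans' le_sup_left
  set Z := U ⊓ centralizer (U : Set G) with hZ_def
  haveI hZn : Z.Normal := Subgroup.normal_inf_normal _ _
  have hxZ : x ∈ Z :=
    mem_inf.mpr ⟨hxU, mem_centralizer_iff.mpr fun u hu => mem_cz.mp (hSxx (hUle Sx hSx hu))⟩
  have hMx : ncl y ≤ cz x := P.symm.ncl_le_cz hB.toFour.symm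
  set M := ncl y with hM_def
  obtain ⟨Qy, hQy, hyQy, hQyy⟩ := exists_sylow_central (r := q) (g := y) (P.index_y ▸ hqm) P.pel_y
  -- the `p`-elements of `M` lie in `U`
  have hMU : ∀ v ∈ M, IsPEl p v → v ∈ U := by
    set π := QuotientGroup.mk' U
    have hsurj := QuotientGroup.mk'_surjective U
    obtain ⟨i, hi⟩ := P.pel_y
    have hyq : IsPEl q (π y) := by
      obtain ⟨j, -, hj⟩ := (Nat.dvd_prime_pow hq).mp (hi ▸ orderOf_map_dvd π y)
      exact ⟨j, hj⟩
    have hyF : π y ∈ Cfsg.fittingSubgroup (G ⧸ U) := by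
      refine H19.centralizer_fitting_le ?_
      suffices hle : Cfsg.fittingSubgroup (G ⧸ U) ≤ cz (π y) from
        mem_centralizer_iff.mpr fun f hf => mem_cz.mp (hle hf)
      rw [H19.fitting_eq_iSup_pCore]
      refine iSup_le fun r u hu => ?_
      haveI := Fact.mk r.2
      by_cases hrp : (r : ℕ) = p
      · rw [hrp] at hu
        rw [H19.pCore_quotient_pCore] at hu
        rw [mem_bot.mp hu]
        exact one_mem _
      obtain ⟨R, hR, hRy⟩ : ∃ R : Subgroup G, IsSylowIn r R ⊤ ∧ R ≤ cz y := by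
        by_cases hrq : (r : ℕ) = q
        · exact ⟨Qy, hrq ▸ hQy, hQyy⟩
        · obtain ⟨R, hR, -⟩ := H89.exists_isSylowIn
            (IsPGroup.of_bot : IsPGroup r (⊥ : Subgroup G)) (bot_le : (⊥ : Subgroup G) ≤ ⊤)
          exact ⟨R, hR, fun g hg => H89.center_le_cz y
            (h.mem_center r.2 hrp hrq (IsPEl.of_mem hR.isPGroup hg))⟩
      have hu' := H19.pCore_le_sylow ((Sylow.ofCard R (by rw [hR.2, card_top])).mapSurjective hsurj) hu
      rw [Sylow.coe_mapSurjective, Sylow.coe_ofCard] at hu'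
      obtain ⟨g, hg, rfl⟩ := hu'
      exact mem_cz.mpr (by rw [← map_mul, mem_cz.mp (hRy hg), map_mul])
    haveI : (Cfsg.pCore q (G ⧸ U)).Normal := H19.pCore_normal q _
    have hMW : M ≤ (Cfsg.pCore q (G ⧸ U)).comap π :=
      normalClosure_le_normal (Set.singleton_subset_iff.mpr (H89.mem_pCore_of_pel_fitting hyF hyq))
    rintro v hv ⟨k, hk⟩
    obtain ⟨j, hj⟩ := H86.exists_orderOf_eq_pow_of_mem (H19.pCore_isPGroup (G := G ⧸ U) q) (hMW hv)
    have hd : orderOf (π v) ∣ p ^ k := hk ▸ orderOf_map_dvd π v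
    have h1 := Nat.eq_one_of_dvd_coprimes (((Nat.coprime_primes hq hp).mpr (Ne.symm hpq)).pow j k)
      (hj ▸ dvd_rfl) hd
    exact (QuotientGroup.eq_one_iff v).mp (orderOf_eq_one_iff.mp h1)
  -- a Sylow `q`-subgroup of `M`
  set QM := Qy ⊓ M with hQM_def
  have hQM : IsSylowIn q QM M := hQy.inf_of_le_normalizer (by rw [normalizer_eq_top]; exact le_top)
  have hMcases : ∀ {r : ℕ} (T : Subgroup G), IsSylowIn r T M → r.Prime → r ≠ q →
      ∀ g ∈ T, (g ∈ M ⊓ U) ∨ (g ∈ M ⊓ center G) := by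
    intro r T hT hr hrq g hg
    haveI := Fact.mk hr
    by_cases hrp : r = p
    · exact Or.inl (mem_inf.mpr ⟨hT.1 hg, hMU g (hT.1 hg) (hrp ▸ IsPEl.of_mem hT.isPGroup hg)⟩)
    · exact Or.inr (mem_inf.mpr ⟨hT.1 hg, h.mem_center hr hrp hrq (IsPEl.of_mem hT.isPGroup hg)⟩)
  set R := (M ⊓ U) ⊔ (M ⊓ center G) with hR_def
  haveI : (M ⊓ U).Normal := Subgroup.normal_inf_normal _ _
  haveI : (M ⊓ center G).Normal := Subgroup.normal_inf_normal _ _
  haveI hRn : R.Normal := Subgroup.sup_normal _ _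
  have hgen : R ⊔ QM = M := by
    refine eq_of_forall_isSylowIn (sup_le (sup_le inf_le_left inf_le_left) hQM.1) fun r hr => ?_
    haveI := Fact.mk hr
    by_cases hrq : r = q
    · exact ⟨QM, hrq ▸ hQM, le_sup_right⟩
    obtain ⟨T, hT, -⟩ := H89.exists_isSylowIn (IsPGroup.of_bot : IsPGroup r (⊥ : Subgroup G))
      (bot_le : ⊥ ≤ M)
    refine ⟨T, hT, fun g hg => mem_sup_left ?_⟩
    rcases hMcases T hT hr hrq g hg with e | e
    · exact mem_sup_left e
    · exact mem_sup_right e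
  -- `M` centralizes `Z`
  haveI : IsMulCommutative Z :=
    ⟨⟨fun u v => Subtype.ext (mem_centralizer_iff.mp v.2.2 u u.2.1)⟩⟩
  have hRZ : R ≤ centralizer (Z : Set G) := by
    refine sup_le (fun u hu => mem_centralizer_iff.mpr fun z hz => ?_)
      (inf_le_right.trans (center_le_centralizer _))
    exact (mem_centralizer_iff.mp hz.2 u hu.2).symm
  have hMZ : M ≤ centralizer (Z : Set G) := by
    have hfix : Z ⊓ centralizer (QM : Set G) ≤ centralizer (M : Set G) := by
      rintro w ⟨hwZ, hwQ⟩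
      suffices hle : M ≤ cz w from mem_centralizer_iff.mpr fun g hg => mem_cz.mp (hle hg)
      rw [← hgen]
      exact sup_le (fun g hg => mem_cz.mpr (mem_centralizer_iff.mp (hRZ hg) w hwZ).symm)
        (fun g hg => mem_cz.mpr (mem_centralizer_iff.mp hwQ g hg))
    have hcop : (Nat.card QM).Coprime (Nat.card Z) := by
      obtain ⟨i, hi⟩ := IsPGroup.iff_card.mp (hUp.to_le (inf_le_left : Z ≤ U))
      rw [hQM.2, hi]
      exact ((Nat.coprime_primes hq hp).mpr (Ne.symm hpq)).pow _ _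
    have hdec := H20.abelian_decomposition (A := QM) (V := Z)
      (by rw [normalizer_eq_top]; exact le_top) hcop
    have hcomm : ⁅Z, M⁆ ≤ ⁅Z, QM⁆ := by
      rw [commutator_le]
      intro z hz g hg
      rw [← hgen, sup_comm] at hg
      obtain ⟨u, hu, c, hc, rfl⟩ := mem_sup_of_normal_right.mp hg
      have h1 : ⁅z, u * c⁆ = ⁅z, u⁆ := by
        have h2 : c * z⁻¹ = z⁻¹ * c :=
          ((show Commute z c from mem_centralizer_iff.mp (hRZ hc) z hz).inv_left.eq).symm
        simp only [commutatorElement_def, mul_inv_rev]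
        calc z * (u * c) * z⁻¹ * (c⁻¹ * u⁻¹) = z * u * (c * z⁻¹) * c⁻¹ * u⁻¹ := by group
          _ = z * u * (z⁻¹ * c) * c⁻¹ * u⁻¹ := by rw [h2]
          _ = z * u * z⁻¹ * u⁻¹ := by group
      rw [h1]
      exact commutator_mem_commutator hz hu
    set T := ⁅Z, M⁆ with hT_def
    haveI : T.Normal := Subgroup.commutator_normal Z M
    have hTZ : T ≤ Z := commutator_le_left _ _
    refine le_centralizer_iff.mp (commutator_eq_bot_iff_le_centralizer.mp ?_)
    by_contra hne
    have hTS : T ≤ Sx := hTZ.trans (inf_le_left.trans (hUle Sx hSx))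
    have hne' : T.subgroupOf Sx ≠ ⊥ := by
      rw [Ne, subgroupOf_eq_bot]
      intro hd
      exact hne (eq_bot_iff.mpr fun t ht => hd.le_bot ⟨ht, hTS ht⟩)
    haveI : (T.subgroupOf Sx).Normal := (inferInstance : T.Normal).subgroupOf _
    obtain ⟨⟨w, hwmem⟩, hw1⟩ := Subgroup.ne_bot_iff_exists_ne_one.mp
      (H27.inf_center_ne_bot (hSx.isPGroup) (T.subgroupOf Sx) hne')
    have hwT : (w : G) ∈ T := hwmem.1
    have hw1' : (w : G) ≠ 1 := fun e => hw1 (Subtype.ext (Subtype.ext e))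
    have hSw : Sx ≤ cz (w : G) := fun s hs =>
      mem_cz.mpr (congrArg Subtype.val (mem_center_iff.mp hwmem.2 ⟨s, hs⟩))
    have hxM : x ∈ Z ⊓ centralizer (M : Set G) :=
      mem_inf.mpr ⟨hxZ, mem_centralizer_iff.mpr fun g hg => mem_cz.mp (hMx hg)⟩
    set Z0 := Z ⊓ centralizer (M : Set G) with hZ0_def
    haveI : Z0.Normal := Subgroup.normal_inf_normal _ _
    have hZ0le : Z0 ≤ Z ⊓ centralizer (QM : Set G) :=
      inf_le_inf_left _ (centralizer_le (fun g hg => hQM.1 hg))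
    have hsplit : ∀ g ∈ Z0, g ∈ T → g = 1 := fun g hg hgT => by
      have h1 : g ∈ (Z ⊓ centralizer (QM : Set G)) ⊓ ⁅Z, QM⁆ :=
        mem_inf.mpr ⟨hZ0le hg, hcomm hgT⟩
      rwa [hdec.1, mem_bot] at h1
    set C := cz (x * (w : G))
    have hCx : C ≤ cz x ⊓ cz (w : G) := by
      intro g hg
      have h2 : g * x * g⁻¹ * (g * (w : G) * g⁻¹) = x * w := by
        rw [show g * x * g⁻¹ * (g * (w : G) * g⁻¹) = g * (x * w) * g⁻¹ by group, mem_cz.mp hg,
          mul_inv_cancel_right]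
      have h3 : x⁻¹ * (g * x * g⁻¹) = (w : G) * (g * (w : G) * g⁻¹)⁻¹ := by
        calc x⁻¹ * (g * x * g⁻¹)
            = x⁻¹ * (g * x * g⁻¹ * (g * (w : G) * g⁻¹)) * (g * (w : G) * g⁻¹)⁻¹ := by group
          _ = x⁻¹ * (x * w) * (g * (w : G) * g⁻¹)⁻¹ := by rw [h2]
          _ = _ := by group
      have h4 : x⁻¹ * (g * x * g⁻¹) = 1 := hsplit _
        (mul_mem (inv_mem hxM) ((inferInstance : Z0.Normal).conj_mem x hxM g))
        (h3 ▸ mul_mem hwT (inv_mem ((inferInstance : T.Normal).conj_mem _ hwT g)))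
      have h5 : g * x * g⁻¹ = x := (inv_mul_eq_one.mp h4).symm
      rw [h4] at h3
      have h6 : g * (w : G) * g⁻¹ = w := (mul_inv_eq_one.mp h3.symm).symm
      exact mem_inf.mpr ⟨mem_cz.mpr (mul_inv_eq_iff_eq_mul.mp h5),
        mem_cz.mpr (mul_inv_eq_iff_eq_mul.mp h6)⟩
    have hSC : Sx ≤ C := fun s hs =>
      mem_cz.mpr (Commute.mul_right (mem_cz.mp (hSxx hs)) (mem_cz.mp (hSw hs))).eq
    have hCn : C.index = n := by
      rcases hB.toFour.eq_nm_or_n (g := x * (w : G))
        (P.index_x ▸ index_dvd_of_le (hCx.trans inf_le_left)) with e | e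
      · exact e
      · exfalso
        have h1 : C.index ∣ Sx.index := index_dvd_of_le hSC
        have h2 : ¬ p ∣ Sx.index := by
          have := (Sylow.ofCard Sx (by rw [hSx.2, card_top])).not_dvd_index
          rwa [Sylow.coe_ofCard] at this
        exact h2 ((hpm.mul_left n).trans (e ▸ h1))
    have hxC : cz x ≤ cz (w : G) :=
      ((H89.eq_of_le_of_index (hCx.trans inf_le_left) (hCn.trans P.index_x.symm)).ge).trans
        (hCx.trans inf_le_right)
    exact hw1' (hsplit _ (mem_inf.mpr ⟨hTZ hwT,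
      mem_centralizer_iff.mpr fun g hg => mem_cz.mp (hxC (hMx hg))⟩) hwT)
  -- the `p`-elements of `M` commute with `QM`
  have hcover : ∀ v ∈ M ⊓ U, ∃ c ∈ M ⊓ U, c⁻¹ * v * c ∈ centralizer (QM : Set G) := by
    intro v hv
    obtain ⟨T, hT, hTv⟩ : ∃ T : Subgroup G, IsSylowIn q T M ∧ T ≤ cz v := by
      by_cases hvZ : v ∈ center G
      · exact ⟨QM, hQM, by rw [H89.cz_eq_top_iff.mpr hvZ]; exact le_top⟩
      have hvp : IsPEl p v := IsPEl.of_mem hUp hv.2
      rcases hB.toFour.cases_nc hvZ with e | e | e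
      · obtain ⟨Sv, hSv, -, hSvv⟩ := exists_sylow_central (r := p) (g := v) (e ▸ h.not_p_dvd) hvp
        have hvZ' : v ∈ Z :=
          mem_inf.mpr ⟨hv.2, mem_centralizer_iff.mpr fun u hu => mem_cz.mp (hSvv (hUle Sv hSv hu))⟩
        exact ⟨QM, hQM, fun g hg =>
          mem_cz.mpr (mem_centralizer_iff.mp (hMZ (hQM.1 hg)) v hvZ').symm⟩
      · exact absurd hpm (hB.no_m p v hp hvp e)
      · obtain ⟨E, hE, -⟩ := H89.exists_isSylowIn (IsPGroup.of_bot : IsPGroup q (⊥ : Subgroup G))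
          (bot_le : ⊥ ≤ cz v)
        have hxv : x ∈ cz v := mem_cz.mpr (mem_centralizer_iff.mp hxZ.2 v hv.2).symm
        have hEx : E ≤ cz x := by
          intro f hf
          have hfq := IsPEl.of_mem hE.isPGroup hf
          have h1 := cz_mul (u := v) (v := f) (hE.1 hf) (IsPEl.coprime_pel hp hq hpq hvp hfq)
          have h2 : cz v ⊓ cz f = cz v := eq_of_le_of_index_dvd inf_le_left
            (e ▸ h1 ▸ hB.toFour.index_dvd _)
          exact mem_cz_comm.mp ((h2.ge.trans inf_le_right) hxv)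
        obtain ⟨S2, hS2, hES2⟩ := H89.exists_isSylowIn hE.isPGroup (le_top : E ≤ (⊤ : Subgroup G))
        have hS2M : IsSylowIn q (S2 ⊓ M) M :=
          hS2.inf_of_le_normalizer (by rw [normalizer_eq_top]; exact le_top)
        have hEK : IsSylowIn q E (cz x) := by
          refine ⟨hEx, hE.2.trans ?_⟩
          have h1 := H89.OneMMn.factorization_cz q x
          have h2 := H89.OneMMn.factorization_cz q v
          rw [P.index_x] at h1
          rw [e, Nat.factorization_mul (by have := hB.one_lt_n; omega)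
            (by have := hB.one_lt_m; omega), Finsupp.add_apply,
            Nat.factorization_eq_zero_of_not_dvd hqm, add_zero] at h2
          congr 1
          omega
        have hle : E = E ⊔ (S2 ⊓ M) := hEK.eq_of_le
          (hS2.isPGroup.to_le (sup_le hES2 inf_le_left)) le_sup_left
          (sup_le hEx (inf_le_right.trans hMx))
        exact ⟨S2 ⊓ M, hS2M, (le_sup_right.trans hle.ge).trans hE.1⟩
    obtain ⟨c, hc, hcT⟩ := hQM.exists_conj hT
    rw [← hgen] at hc
    obtain ⟨r0, hr0, d, hd, rfl⟩ := mem_sup_of_normal_left.mp hc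
    obtain ⟨u, hu, z, hz, rfl⟩ := mem_sup_of_normal_left.mp hr0
    refine ⟨u, hu, mem_centralizer_iff.mpr fun g hg => ?_⟩
    -- `u * z * d * (d⁻¹ g d) * (u * z * d)⁻¹ = u g u⁻¹` lies in `T`
    have h1 : u * g * u⁻¹ ∈ T := by
      rw [← hcT, H86.mem_conj_smul_iff]
      have h2 : (u * z * d)⁻¹ * (u * g * u⁻¹) * (u * z * d) = d⁻¹ * g * d := by
        calc (u * z * d)⁻¹ * (u * g * u⁻¹) * (u * z * d) = d⁻¹ * (z⁻¹ * (g * z)) * d := by group
          _ = d⁻¹ * (z⁻¹ * (z * g)) * d := by rw [mem_center_iff.mp hz.2 g]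
          _ = _ := by group
      rw [h2]
      exact mul_mem (mul_mem (inv_mem hd) hg) hd
    have h3 : u * g * u⁻¹ * v = v * (u * g * u⁻¹) := mem_cz.mp (hTv h1)
    calc g * (u⁻¹ * v * u) = u⁻¹ * (u * g * u⁻¹ * v) * u := by group
      _ = u⁻¹ * (v * (u * g * u⁻¹)) * u := by rw [h3]
      _ = u⁻¹ * v * u * g := by group
  have htop : (centralizer (QM : Set G)).subgroupOf (M ⊓ U) = ⊤ :=
    H86.eq_top_of_conjugates_cover _ fun v => by
      obtain ⟨c, hc, hcv⟩ := hcover v v.2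
      exact ⟨⟨c, hc⟩, mem_subgroupOf.mpr hcv⟩
  rw [subgroupOf_eq_top] at htop
  -- hence `QM` is the only Sylow `q`-subgroup of `M`
  have hMn : M ≤ normalizer (QM : Set G) := by
    rw [← hgen]
    exact sup_le (sup_le (H20.le_normalizer_of_le_centralizer htop)
      (H20.le_normalizer_of_le_centralizer (inf_le_right.trans (center_le_centralizer _))))
      Subgroup.le_normalizer
  have huniq : ∀ f ∈ M, IsPEl q f → f ∈ QM := by
    intro f hf hfq
    obtain ⟨c, hc, hcf⟩ := hQM.exists_conj_mem hfq hf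
    exact (mem_normalizer_iff.mp (hMn hc) f).mpr hcf
  haveI : QM.Normal := ⟨fun f hf g => huniq _ ((inferInstance : M.Normal).conj_mem f (hQM.1 hf) g)
    ((IsPEl.of_mem hQM.isPGroup hf).conj g)⟩
  exact H19.le_pCore inferInstance hQM.isPGroup (huniq y (mem_ncl y) P.pel_y)

end Cfsg.Agent.H86.FourSizes
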