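import Cfsg.Agent.H86.FourSizes.CaseA
import Cfsg.Agent.H86.FourSizes.Cores

/-!
# Class sizes `1`, `n`, `m`, `n m`: conclusion
-/

set_option linter.style.haveILetI false

namespace Cfsg.Agent.H86.FourSizes

open Subgroup
open scoped Pointwise
open Cfsg.Agent.H89 (cz IsPEl IsSylowIn mem_cz self_mem_cz mem_cz_comm cz_mul)

variable {G : Type*} [Group G] [Finite G] {n m p q a b : ℕ} {x y : G}

/-- Both elements lie in the cores. -/
structure CoreData (G : Type*) [Group G] (n m p q a b : ℕ) (x y : G) : Prop where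
  pow : PowData G n m p q a b x y
  mem_p : x ∈ Cfsg.pCore p G
  mem_q : y ∈ Cfsg.pCore q G

omit [Finite G] in
theorem CoreData.symm (h : CoreData G n m p q a b x y) : CoreData G m n q p b a y x :=
  ⟨h.pow.symm, h.mem_q, h.mem_p⟩

theorem CoreData.core_commute (h : CoreData G n m p q a b x y) {u v : G}
    (hu : u ∈ Cfsg.pCore p G) (hv : v ∈ Cfsg.pCore q G) : Commute u v := by
  haveI := Fact.mk h.pow.pair.prime_p
  haveI := Fact.mk h.pow.pair.prime_q
  exact commute_of_normal_of_disjoint _ _ (H19.pCore_normal p G) (H19.pCore_normal q G)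
    (IsPGroup.disjoint_of_ne p q (h.pow.pair.ne h.pow.caseB) _ _ (H19.pCore_isPGroup p)
      (H19.pCore_isPGroup q)) u v hu hv

theorem CoreData.core_le (h : CoreData G n m p q a b x y) :
    Cfsg.pCore p G ≤ cz y ∧ Cfsg.pCore p G ≤ cz x := by
  haveI := Fact.mk h.pow.pair.prime_p
  have hL : Cfsg.pCore p G ≤ cz y := fun u hu => mem_cz.mpr (h.core_commute hu h.mem_q).eq
  exact ⟨hL, fun u hu =>
    mem_cz.mpr (h.pow.commute_of_le (H19.pCore_isPGroup p) hL hu h.mem_p).eq⟩

/-- The `q`-elements of `cz x ⊓ cz y` lie in the `q`-core. -/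
theorem CoreData.mem_qCore (h : CoreData G n m p q a b x y) {e : G} (hex : e ∈ cz x)
    (hey : e ∈ cz y) (he : IsPEl q e) : e ∈ Cfsg.pCore q G := by
  have hP := h.pow.pair
  have hB := h.pow.caseB
  haveI := Fact.mk hP.prime_p
  haveI := Fact.mk hP.prime_q
  haveI := h.pow.isSolvable
  have hp := hP.prime_p
  have hq := hP.prime_q
  have hqn : q ∣ n := h.pow.symm.p_dvd
  by_cases heZ : e ∈ center G
  · haveI : (zpowers e).Normal := ⟨fun u hu g => by
      rw [mem_center_iff.mp (zpowers_le.mpr heZ hu) g, mul_inv_cancel_right]; exact hu⟩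
    exact H19.le_pCore inferInstance he.isPGroup_zpowers (mem_zpowers e)
  rcases hB.toFour.cases_nc heZ with e1 | e1 | e1
  · exact absurd hqn (hB.no_n q e hq he e1)
  · exact (⟨hB, ⟨hp, hq, hP.pel_x, he, hP.index_x, e1, hex⟩, h.pow.n_eq, h.pow.m_eq⟩ :
      PowData G n m p q a b x e).mem_qCore h.mem_p
  obtain ⟨hUy, hUx⟩ := h.core_le
  obtain ⟨hVx, hVy⟩ := h.symm.core_le
  have hUe : Cfsg.pCore p G ≤ cz e := by
    obtain ⟨S, hS, -⟩ := H89.exists_isSylowIn (IsPGroup.of_bot : IsPGroup p (⊥ : Subgroup G))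
      (bot_le : ⊥ ≤ cz e)
    have hSD : S ≤ cz x ⊓ cz y := by
      intro t ht
      have h1 := cz_mul (u := e) (v := t) (hS.1 ht)
        (IsPEl.coprime_pel hq hp (Ne.symm (hP.ne hB)) he (IsPEl.of_mem hS.isPGroup ht))
      have h2 : cz e ⊓ cz t = cz e := eq_of_le_of_index_dvd inf_le_left
        (e1 ▸ h1 ▸ hB.toFour.index_dvd _)
      exact mem_inf.mpr ⟨mem_cz_comm.mp ((h2.ge.trans inf_le_right) (mem_cz_comm.mp hex)),
        mem_cz_comm.mp ((h2.ge.trans inf_le_right) (mem_cz_comm.mp hey))⟩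
    have hSylD : IsSylowIn p S (cz x ⊓ cz y) := by
      refine ⟨hSD, hS.2.trans ?_⟩
      have h1 := congrArg (fun k => k.factorization p) (cz e).card_mul_index
      have h2 := congrArg (fun k => k.factorization p) (cz x ⊓ cz y).card_mul_index
      simp only [Nat.factorization_mul Nat.card_pos.ne' index_ne_zero_of_finite,
        Finsupp.add_apply] at h1 h2
      rw [e1] at h1
      rw [(hP.index_inf hB).1] at h2
      congr 1
      omega
    haveI := H19.pCore_normal p G
    have hle := hSylD.eq_of_le ((H19.pCore_isPGroup (G := G) p).to_sup_of_normal_left hS.isPGroup)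
      le_sup_right (sup_le (le_inf hUx hUy) hSD)
    exact (hle.ge.trans' le_sup_left).trans hS.1
  have hgrp : IsPGroup q (Cfsg.pCore q G ⊔ zpowers e : Subgroup G) := by
    haveI := H19.pCore_normal q G
    exact (H19.pCore_isPGroup (G := G) q).to_sup_of_normal_left he.isPGroup_zpowers
  have hVe : Cfsg.pCore q G ≤ cz e := fun v hv => mem_cz.mpr
    (h.pow.symm.commute_of_le hgrp (sup_le hVx (zpowers_le.mpr hex)) (mem_sup_left hv)
      (mem_sup_right (mem_zpowers e))).eq
  refine H89.mem_pCore_of_pel_fitting (H19.centralizer_fitting_le ?_) he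
  suffices hle : Cfsg.fittingSubgroup G ≤ cz e from
    mem_centralizer_iff.mpr fun f hf => mem_cz.mp (hle hf)
  rw [H19.fitting_eq_iSup_pCore]
  refine iSup_le fun r => ?_
  by_cases hrp : (r : ℕ) = p
  · rw [hrp]; exact hUe
  by_cases hrq : (r : ℕ) = q
  · rw [hrq]; exact hVe
  haveI := Fact.mk r.2
  exact fun u hu => H89.center_le_cz e
    (h.pow.mem_center r.2 hrp hrq (IsPEl.of_mem (H19.pCore_isPGroup (r : ℕ)) hu))

/-- The `q`-core is a Sylow subgroup of `cz x ⊓ cz y`. -/
theorem CoreData.card_qCore (h : CoreData G n m p q a b x y) :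
    Nat.card (Cfsg.pCore q G) = q ^ ((Nat.card G).factorization q - a) := by
  haveI := Fact.mk h.pow.pair.prime_q
  set V := Cfsg.pCore q G
  obtain ⟨hVx, hVy⟩ := h.symm.core_le
  obtain ⟨S, hS, hVS⟩ := H89.exists_isSylowIn (H19.pCore_isPGroup (G := G) q)
    (le_inf hVx hVy : V ≤ cz x ⊓ cz y)
  have hSV : S ≤ V := fun e he =>
    h.mem_qCore (hS.1 he).1 (hS.1 he).2 (IsPEl.of_mem hS.isPGroup he)
  rw [show V = S from le_antisymm hVS hSV, hS.2]
  congr 1
  have h1 := congrArg (fun k => k.factorization q) (cz x ⊓ cz y).card_mul_index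
  simp only [Nat.factorization_mul Nat.card_pos.ne' index_ne_zero_of_finite,
    Finsupp.add_apply] at h1
  rw [(h.pow.pair.index_inf h.pow.caseB).1, Nat.factorization_mul
    (by have := h.pow.caseB.one_lt_n; omega) (by have := h.pow.caseB.one_lt_m; omega),
    Finsupp.add_apply, Nat.factorization_eq_zero_of_not_dvd h.pow.symm.not_p_dvd, h.pow.n_eq,
    h.pow.pair.prime_q.factorization_pow, Finsupp.single_eq_same] at h1
  omega

/-- Sylow `q`-subgroups of centralizers of elements with index divisible by `n`. -/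
theorem CoreData.card_sylowIn (h : CoreData G n m p q a b x y) {g : G} {E : Subgroup G}
    (hE : IsSylowIn q E (cz g)) (hn : n ∣ (cz g).index) :
    Nat.card E = Nat.card (Cfsg.pCore q G) := by
  rw [hE.2, h.card_qCore]
  congr 1
  have h1 := H89.OneMMn.factorization_cz q g
  have hq := h.pow.pair.prime_q
  have hn0 : n ≠ 0 := by have := h.pow.caseB.one_lt_n; omega
  have hm0 : m ≠ 0 := by have := h.pow.caseB.one_lt_m; omega
  have hna : n.factorization q = a := by
    rw [h.pow.n_eq, hq.factorization_pow, Finsupp.single_eq_same]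
  rcases h.pow.caseB.toFour.eq_nm_or_n hn with e | e <;> rw [e] at h1
  · omega
  · rw [Nat.factorization_mul hn0 hm0, Finsupp.add_apply,
      Nat.factorization_eq_zero_of_not_dvd h.pow.symm.not_p_dvd] at h1
    omega

/-- The `q`-elements commuting with a noncentral element of the `p`-core lie in the `q`-core. -/
theorem CoreData.mem_of_commute_core (h : CoreData G n m p q a b x y) {u e : G}
    (hu : u ∈ Cfsg.pCore p G) (huZ : u ∉ center G) (he : IsPEl q e) (heu : e ∈ cz u) :
    e ∈ Cfsg.pCore q G := by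
  haveI := Fact.mk h.pow.pair.prime_p
  haveI := Fact.mk h.pow.pair.prime_q
  set V := Cfsg.pCore q G
  haveI : V.Normal := H19.pCore_normal q G
  have hVu : V ≤ cz u := fun v hv => mem_cz.mpr (h.core_commute hu hv).eq.symm
  obtain ⟨E, hE, hVE⟩ := H89.exists_isSylowIn (H19.pCore_isPGroup (G := G) q) hVu
  have hne : (cz u).index ≠ m := fun e1 =>
    h.pow.caseB.no_m p u h.pow.pair.prime_p (IsPEl.of_mem (H19.pCore_isPGroup p) hu) e1 h.pow.p_dvd
  have heq : V = E := Subgroup.eq_of_le_of_card_ge hVE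
    (h.card_sylowIn hE (h.pow.caseB.toFour.n_dvd huZ hne)).le
  obtain ⟨c, -, hc⟩ := hE.exists_conj_mem he heu
  rw [← heq] at hc
  simpa [mul_assoc] using (inferInstance : V.Normal).conj_mem _ hc c⁻¹

/-- The counting step: `n < m`. -/
theorem CoreData.lt (h : CoreData G n m p q a b x y) : n < m := by
  have hP := h.pow.pair
  have hB := h.pow.caseB
  haveI := Fact.mk hP.prime_p
  haveI := Fact.mk hP.prime_q
  have hp := hP.prime_p
  have hq := hP.prime_q
  have hpm := h.pow.p_dvd
  obtain ⟨hUy, hUx⟩ := h.core_le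
  obtain ⟨hVx, hVy⟩ := h.symm.core_le
  set U := Cfsg.pCore p G with hU_def
  set V := Cfsg.pCore q G with hV_def
  haveI : U.Normal := H19.pCore_normal p G
  haveI : V.Normal := H19.pCore_normal q G
  have hUp : IsPGroup p U := H19.pCore_isPGroup p
  -- a `p`-element outside the core
  obtain ⟨w, hw, hwU⟩ : ∃ w : G, IsPEl p w ∧ w ∉ U := by
    by_contra hcon
    push Not at hcon
    obtain ⟨S⟩ := (inferInstance : Nonempty (Sylow p G))
    exact S.not_dvd_index (hpm.trans (hP.index_y ▸ index_dvd_of_le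
      (fun g hg => hUy (hcon g (IsPEl.of_mem S.2 hg)))))
  have hwZ : w ∉ center G := fun hZ => hwU (by
    haveI : (zpowers w).Normal := ⟨fun u hu g => by
      rw [mem_center_iff.mp (zpowers_le.mpr hZ hu) g, mul_inv_cancel_right]; exact hu⟩
    exact H19.le_pCore inferInstance hw.isPGroup_zpowers (mem_zpowers w))
  obtain ⟨E, hE, -⟩ := H89.exists_isSylowIn (IsPGroup.of_bot : IsPGroup q (⊥ : Subgroup G))
    (bot_le : ⊥ ≤ cz w)
  have hEV : ¬ E ≤ V := by
    intro hle
    have hn : n ∣ (cz w).index :=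
      hB.toFour.n_dvd hwZ fun e => hB.no_m p w hp hw e hpm
    have heq : E = V := Subgroup.eq_of_le_of_card_ge hle (h.card_sylowIn hE hn).ge
    have hwL : w ∈ cz y := mem_cz_comm.mp (hE.1 (heq ▸ h.mem_q))
    have hgrp : IsPGroup p (U ⊔ zpowers w : Subgroup G) :=
      hUp.to_sup_of_normal_left hw.isPGroup_zpowers
    have hwx : w ∈ cz x := mem_cz.mpr (h.pow.commute_of_le hgrp
      (sup_le hUy (zpowers_le.mpr hwL)) (mem_sup_right (mem_zpowers w)) (mem_sup_left h.mem_p)).eq
    exact hwU (h.symm.mem_qCore hwL hwx hw)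
  obtain ⟨e, heE, heV⟩ := SetLike.not_le_iff_exists.mp hEV
  have he : IsPEl q e := IsPEl.of_mem hE.isPGroup heE
  have heZ : e ∉ center G := fun hZ => heV (by
    haveI : (zpowers e).Normal := ⟨fun u hu g => by
      rw [mem_center_iff.mp (zpowers_le.mpr hZ hu) g, mul_inv_cancel_right]; exact hu⟩
    exact H19.le_pCore inferInstance he.isPGroup_zpowers (mem_zpowers e))
  obtain ⟨W, hW, -⟩ := H89.exists_isSylowIn (IsPGroup.of_bot : IsPGroup p (⊥ : Subgroup G))
    (bot_le : ⊥ ≤ cz e)
  have hWcard : Nat.card W = Nat.card U := h.symm.card_sylowIn hW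
    (hB.symm.toFour.n_dvd heZ fun e1 => hB.no_n q e hq he e1 h.pow.symm.p_dvd)
  set Zu := U ⊓ center G with hZu_def
  haveI : Zu.Normal := Subgroup.normal_inf_normal _ _
  have hWU : W ⊓ U ≤ Zu := by
    rintro u ⟨huW, huU⟩
    refine mem_inf.mpr ⟨huU, ?_⟩
    by_contra huZ
    exact heV (h.mem_of_commute_core huU huZ he (mem_cz_comm.mp (hW.1 huW)))
  have hprod := H89.card_sup_mul_inf_of_le_normalizer (H := W) (K := U)
    (by rw [normalizer_eq_top]; exact le_top)
  have hWUp : IsPGroup p (W ⊔ U : Subgroup G) := hW.isPGroup.to_sup_of_normal_right hUp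
  have h1 : Nat.card (W ⊔ U : Subgroup G) ≤ p ^ (Nat.card G).factorization p := by
    have := H89.card_dvd_ordProj hWUp (le_top : W ⊔ U ≤ (⊤ : Subgroup G))
    rw [card_top] at this
    exact Nat.le_of_dvd (pow_pos hp.pos _) this
  have h2 : Nat.card (W ⊓ U : Subgroup G) ≤ Nat.card Zu := Subgroup.card_le_of_le hWU
  have hb : b ≤ (Nat.card G).factorization p := by
    have := congrArg (fun k => k.factorization p) (cz y).card_mul_index
    simp only [Nat.factorization_mul Nat.card_pos.ne' index_ne_zero_of_finite,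
      Finsupp.add_apply] at this
    rw [hP.index_y, h.pow.m_eq, hp.factorization_pow, Finsupp.single_eq_same] at this
    omega
  have hcardU : Nat.card U = p ^ ((Nat.card G).factorization p - b) := h.symm.card_qCore
  have hPG : p ^ (Nat.card G).factorization p = Nat.card U * m := by
    rw [hcardU, h.pow.m_eq, ← pow_add, Nat.sub_add_cancel hb]
  have h3 : Nat.card U ≤ m * Nat.card Zu := by
    have h4 : Nat.card U * Nat.card U ≤ Nat.card U * (m * Nat.card Zu) := by
      calc Nat.card U * Nat.card U = Nat.card W * Nat.card U := by rw [hWcard]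
        _ = Nat.card (W ⊔ U : Subgroup G) * Nat.card (W ⊓ U : Subgroup G) := hprod.symm
        _ ≤ p ^ (Nat.card G).factorization p * Nat.card Zu := Nat.mul_le_mul h1 h2
        _ = Nat.card U * (m * Nat.card Zu) := by rw [hPG, mul_assoc]
    exact Nat.le_of_mul_le_mul_left h4 Nat.card_pos
  -- the conjugates of `x` are distinct and nontrivial modulo `Zu`
  have hfix : ∀ g : G, x⁻¹ * (g * x * g⁻¹) ∈ Zu → g ∈ cz x := by
    intro g hg
    let K1 : Subgroup G :=
      { carrier := {k | x⁻¹ * (k * x * k⁻¹) ∈ Zu}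
        one_mem' := by simp
        mul_mem' := fun {c d} hc hd => by
          show x⁻¹ * (c * d * x * (c * d)⁻¹) ∈ Zu
          rw [show x⁻¹ * (c * d * x * (c * d)⁻¹) =
            x⁻¹ * (c * x * c⁻¹) * (c * (x⁻¹ * (d * x * d⁻¹)) * c⁻¹) by group]
          exact mul_mem hc ((inferInstance : Zu.Normal).conj_mem _ hd c)
        inv_mem' := fun {c} hc => by
          show x⁻¹ * (c⁻¹ * x * c⁻¹⁻¹) ∈ Zu
          rw [show x⁻¹ * (c⁻¹ * x * c⁻¹⁻¹) = c⁻¹ * (x⁻¹ * (c * x * c⁻¹))⁻¹ * c⁻¹⁻¹ by group]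
          exact (inferInstance : Zu.Normal).conj_mem _ (inv_mem hc) c⁻¹ }
    let φ : K1 →* Zu :=
      { toFun := fun k => ⟨_, k.2⟩
        map_one' := Subtype.ext (by simp)
        map_mul' := fun c d => Subtype.ext (by
          have h5 : (c : G) * (x⁻¹ * ((d : G) * x * (d : G)⁻¹)) =
              x⁻¹ * ((d : G) * x * (d : G)⁻¹) * c := mem_center_iff.mp (mem_inf.mp d.2).2 c
          show x⁻¹ * ((c : G) * d * x * ((c : G) * d)⁻¹) =
            x⁻¹ * ((c : G) * x * (c : G)⁻¹) * (x⁻¹ * ((d : G) * x * (d : G)⁻¹))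
          calc x⁻¹ * ((c : G) * d * x * ((c : G) * d)⁻¹)
              = x⁻¹ * (c * x * (c : G)⁻¹) * ((c : G) * (x⁻¹ * ((d : G) * x * (d : G)⁻¹)) * (c : G)⁻¹) := by
                group
            _ = _ := by rw [h5, mul_inv_cancel_right]) }
    have hker : φ.ker = (cz x).subgroupOf K1 := by
      ext k
      rw [MonoidHom.mem_ker, mem_subgroupOf, mem_cz, Subtype.ext_iff]
      show x⁻¹ * ((k : G) * x * (k : G)⁻¹) = 1 ↔ _
      rw [inv_mul_eq_one, eq_comm, mul_inv_eq_iff_eq_mul]
    have hKK1 : cz x ≤ K1 := fun k hk => by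
      show x⁻¹ * (k * x * k⁻¹) ∈ Zu
      rw [mem_cz.mp hk, mul_inv_cancel_right, inv_mul_cancel]
      exact one_mem _
    have hd1 : φ.ker.index ∣ n := by
      rw [hker, ← hP.index_x]
      exact Dvd.intro _ (relIndex_mul_index hKK1)
    have hd2 : φ.ker.index ∣ Nat.card Zu := by
      rw [index_ker]
      exact card_subgroup_dvd_card φ.range
    obtain ⟨i, hi⟩ := IsPGroup.iff_card.mp (hUp.to_le (inf_le_left : Zu ≤ U))
    have hone : φ.ker.index = 1 :=
      Nat.eq_one_of_dvd_coprimes (((hp.coprime_iff_not_dvd.mpr h.pow.not_p_dvd).symm).pow_right i)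
        hd1 (hi ▸ hd2)
    rw [index_eq_one, hker, subgroupOf_eq_top] at hone
    exact hone hg
  set Zu' := Zu.subgroupOf U with hZu'_def
  haveI : Zu'.Normal := (inferInstance : Zu.Normal).subgroupOf _
  let f : Option (G ⧸ cz x) → U ⧸ Zu' := fun o => o.elim 1 fun t =>
    QuotientGroup.mk ⟨t.out * x * t.out⁻¹, (inferInstance : U.Normal).conj_mem x h.mem_p _⟩
  have hxZu : x ∉ center G := hB.toFour.notMem_center hP.index_x
  have hne1 : ∀ t : G ⧸ cz x,
      (QuotientGroup.mk ⟨t.out * x * t.out⁻¹, (inferInstance : U.Normal).conj_mem x h.mem_p _⟩ :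
        U ⧸ Zu') ≠ 1 := fun t e1 =>
    hxZu (by
      have h5 := (mem_inf.mp (mem_subgroupOf.mp ((QuotientGroup.eq_one_iff _).mp e1))).2
      simpa [mul_assoc] using (inferInstance : (center G).Normal).conj_mem _ h5 t.out⁻¹)
  have hf : Function.Injective f := by
    rintro (_ | s) (_ | t) hst
    · rfl
    · exact absurd hst.symm (hne1 t)
    · exact absurd hst (hne1 s)
    · have h5 := mem_subgroupOf.mp (QuotientGroup.eq.mp (hst :
        (QuotientGroup.mk ⟨s.out * x * s.out⁻¹, _⟩ : U ⧸ Zu') = QuotientGroup.mk ⟨t.out * x * t.out⁻¹, _⟩))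
      simp only [coe_mul, coe_inv] at h5
      have h6 : x⁻¹ * ((s.out⁻¹ * t.out) * x * (s.out⁻¹ * t.out)⁻¹) ∈ Zu := by
        have h7 := (inferInstance : Zu.Normal).conj_mem _ h5 s.out⁻¹
        rw [show x⁻¹ * ((s.out⁻¹ * t.out) * x * (s.out⁻¹ * t.out)⁻¹) =
          s.out⁻¹ * ((s.out * x * s.out⁻¹)⁻¹ * (t.out * x * t.out⁻¹)) * s.out⁻¹⁻¹ by group]
        exact h7
      have h8 : (QuotientGroup.mk s.out : G ⧸ cz x) = QuotientGroup.mk t.out :=
        QuotientGroup.eq.mpr (hfix _ h6)
      rw [QuotientGroup.out_eq', QuotientGroup.out_eq'] at h8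
      rw [h8]
  have h4 := Nat.card_le_card_of_injective f hf
  rw [Finite.card_option, ← index_eq_card, hP.index_x, ← index_eq_card] at h4
  have h5 : Nat.card Zu * Zu'.index = Nat.card U := by
    rw [← Nat.card_congr (subgroupOfEquivOfLe (inf_le_left : Zu ≤ U)).toEquiv]
    exact card_mul_index _
  by_contra hcon
  have h6 : Nat.card Zu * (n + 1) ≤ Nat.card Zu * n := by
    calc Nat.card Zu * (n + 1) ≤ Nat.card Zu * Zu'.index := Nat.mul_le_mul_left _ h4
      _ = Nat.card U := h5
      _ ≤ m * Nat.card Zu := h3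
      _ ≤ n * Nat.card Zu := Nat.mul_le_mul_right _ (by omega)
      _ = _ := Nat.mul_comm _ _
  have := Nat.le_of_mul_le_mul_left h6 Nat.card_pos
  omega

theorem CaseB.false_of_pair (h : CaseB G n m) (P : IsPair G n m p q x y)
    (hab : ncl x ≤ centralizer (ncl x : Set G)) : False := by
  obtain ⟨a, ha⟩ := h.n_eq_pow P hab
  obtain ⟨b, hb⟩ := h.m_eq_pow P hab
  have hxU : x ∈ Cfsg.pCore p G :=
    H19.le_pCore inferInstance (isPGroup_ncl P.pel_x hab) (mem_ncl x)
  have hd : PowData G n m p q a b x y := ⟨h, P, ha, hb⟩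
  have hc : CoreData G n m p q a b x y := ⟨hd, hxU, hd.mem_qCore hxU⟩
  exact lt_asymm hc.lt hc.symm.lt

theorem CaseB.false (h : CaseB G n m) : False := by
  obtain ⟨p, q, x, y, P⟩ := h.exists_pair
  rcases h.abelian_or P with e | e
  · exact h.false_of_pair P e
  · exact h.symm.false_of_pair P.symm e

/-- Class sizes `1`, `n`, `m`, `n m`: the group is nilpotent and `n`, `m` are prime powers. -/
theorem Four.nilpotent (h : Four G n m) :
    Group.IsNilpotent G ∧ IsPrimePow n ∧ IsPrimePow m := by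
  by_cases hn : ∀ (p : ℕ) (x : G), p.Prime → IsPEl p x → (cz x).index = n → ¬ p ∣ n
  · by_cases hm : ∀ (q : ℕ) (y : G), q.Prime → IsPEl q y → (cz y).index = m → ¬ q ∣ m
    · exact (CaseB.false ⟨h, hn, hm⟩).elim
    · push Not at hm
      obtain ⟨q, y, hq, hy, hym, hqm⟩ := hm
      haveI := Fact.mk hq
      obtain ⟨h1, h2, h3⟩ := h.symm.caseA hy hym hqm
      exact ⟨h1, h3, h2⟩
  · push Not at hn
    obtain ⟨p, x, hp, hx, hxn, hpn⟩ := hn
    haveI := Fact.mk hp
    exact h.caseA hx hxn hpn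

end Cfsg.Agent.H86.FourSizes
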