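import Cfsg.Agent.H89.ClassSizesOneMMnLocal
import Cfsg.Agent.H51.IsolatedSetting
import Cfsg.Agent.H86.Basic

/-!
# Class sizes `1`, `n`, `m`, `n m` with coprime `n`, `m`: basic facts
-/

namespace Cfsg.Agent.H86.FourSizes

open Subgroup
open Cfsg.Agent.H89 (cz IsPEl IsSylowIn mem_cz self_mem_cz mem_cz_comm cz_mul)

/-- The class sizes are `1`, `n`, `m` and `n m`, with `n`, `m` coprime. -/
structure Four (G : Type*) [Group G] (n m : ℕ) : Prop where
  one_lt_n : 1 < n
  one_lt_m : 1 < m
  coprime : n.Coprime m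
  sizes : ∀ x : G, (cz x).index = 1 ∨ (cz x).index = n ∨ (cz x).index = m ∨ (cz x).index = n * m
  exists_n : ∃ x : G, (cz x).index = n
  exists_m : ∃ x : G, (cz x).index = m
  exists_nm : ∃ x : G, (cz x).index = n * m

variable {G : Type*} [Group G] {n m : ℕ}

theorem Four.symm (h : Four G n m) : Four G m n where
  one_lt_n := h.one_lt_m
  one_lt_m := h.one_lt_n
  coprime := h.coprime.symm
  sizes x := by
    rcases h.sizes x with e | e | e | e
    · exact Or.inl e
    · exact Or.inr (Or.inr (Or.inl e))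
    · exact Or.inr (Or.inl e)
    · exact Or.inr (Or.inr (Or.inr (e.trans (Nat.mul_comm n m))))
  exists_n := h.exists_m
  exists_m := h.exists_n
  exists_nm := h.exists_nm.imp fun _ e => e.trans (Nat.mul_comm n m)

theorem Four.notMem_center (h : Four G n m) {x : G} (hx : (cz x).index = n) : x ∉ center G :=
  fun hc => absurd (hx.symm.trans (H89.index_cz_eq_one_iff.mpr hc)) h.one_lt_n.ne'

theorem Four.notMem_center_nm (h : Four G n m) {x : G} (hx : (cz x).index = n * m) :
    x ∉ center G := fun hc => by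
  have := hx.symm.trans (H89.index_cz_eq_one_iff.mpr hc)
  have := h.one_lt_n
  have := h.one_lt_m
  nlinarith

theorem Four.cases_nc (h : Four G n m) {x : G} (hx : x ∉ center G) :
    (cz x).index = n ∨ (cz x).index = m ∨ (cz x).index = n * m :=
  (h.sizes x).resolve_left (mt H89.index_cz_eq_one_iff.mp hx)

theorem Four.index_dvd (h : Four G n m) (x : G) : (cz x).index ∣ n * m := by
  rcases h.sizes x with e | e | e | e <;> rw [e]
  · exact one_dvd _
  · exact dvd_mul_right _ _
  · exact dvd_mul_left _ _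

theorem Four.not_dvd_m (h : Four G n m) {r : ℕ} (hr : r.Prime) (hrn : r ∣ n) : ¬ r ∣ m :=
  fun hrm => hr.ne_one (Nat.eq_one_of_dvd_coprimes h.coprime hrn hrm)

theorem Four.not_n_dvd_m (h : Four G n m) : ¬ n ∣ m :=
  fun hd => absurd (Nat.eq_one_of_dvd_coprimes h.coprime dvd_rfl hd) h.one_lt_n.ne'

/-- A noncentral element with index dividing `n` has index `n`. -/
theorem Four.eq_n_of_dvd (h : Four G n m) {g : G} (hg : g ∉ center G) (hd : (cz g).index ∣ n) :
    (cz g).index = n := by
  rcases h.cases_nc hg with e | e | e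
  · exact e
  · exact absurd (e ▸ hd) h.symm.not_n_dvd_m
  · exact absurd (dvd_trans (dvd_mul_left m n) (e ▸ hd)) h.symm.not_n_dvd_m

/-- Index `n` from divisibility: `n` divides it and it is prime to `m`. -/
theorem Four.eq_nm_or_n (h : Four G n m) {g : G} (hd : n ∣ (cz g).index) :
    (cz g).index = n ∨ (cz g).index = n * m := by
  rcases h.sizes g with e | e | e | e
  · exact absurd (Nat.eq_one_of_dvd_one (e ▸ hd)) h.one_lt_n.ne'
  · exact Or.inl e
  · exact absurd (e ▸ hd) h.not_n_dvd_m
  · exact Or.inr e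

/-- The two ways for a noncentral element of index not `m`. -/
theorem Four.n_dvd (h : Four G n m) {g : G} (hg : g ∉ center G) (hne : (cz g).index ≠ m) :
    n ∣ (cz g).index := by
  rcases h.cases_nc hg with e | e | e
  · exact e ▸ dvd_rfl
  · exact absurd e hne
  · exact e ▸ dvd_mul_right n m

variable [Finite G]

theorem Four.exists_pel_n (h : Four G n m) :
    ∃ (p : ℕ) (x : G), p.Prime ∧ IsPEl p x ∧ (cz x).index = n := by
  obtain ⟨g, hg⟩ := h.exists_n
  obtain ⟨r, u, hr, hu, huZ, -, hle⟩ := H89.exists_primary_noncentral (h.notMem_center hg)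
  exact ⟨r, u, hr, hu, h.eq_n_of_dvd huZ (hg ▸ index_dvd_of_le hle)⟩

theorem eq_of_le_of_index_dvd {A B : Subgroup G} (h : A ≤ B) (hd : A.index ∣ B.index) : A = B :=
  H89.eq_of_le_of_index h (Nat.dvd_antisymm hd (index_dvd_of_le h))

omit [Finite G] in
theorem conj_cancel (c a : G) : c * (c⁻¹ * a * c) * c⁻¹ = a := by group

/-- An `r`-element is conjugate into any centralizer of index prime to `r`. -/
theorem exists_conj_mem_cz {r : ℕ} [Fact r.Prime] {g u : G} (hd : ¬ r ∣ (cz g).index)
    (hu : IsPEl r u) : ∃ c : G, c * u * c⁻¹ ∈ cz g := by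
  obtain ⟨R, hR, hle⟩ := H89.exists_sylowTop_le hd
  obtain ⟨c, -, hc⟩ := hR.exists_conj_mem hu (mem_top u)
  exact ⟨c, hle hc⟩

/-- An `r`-element with index prime to `r` is central in some Sylow `r`-subgroup. -/
theorem exists_sylow_central {r : ℕ} [Fact r.Prime] {g : G} (hd : ¬ r ∣ (cz g).index)
    (hg : IsPEl r g) : ∃ R : Subgroup G, IsSylowIn r R ⊤ ∧ g ∈ R ∧ R ≤ cz g := by
  obtain ⟨R, hR, hle⟩ := H89.exists_sylowTop_le hd
  exact ⟨R, hR, hR.mem_of_le_cz hg hle, hle⟩

/-- A normal subgroup containing a Sylow `r`-subgroup contains every `r`-element. -/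
theorem pel_mem_of_normal {r : ℕ} [Fact r.Prime] {R N : Subgroup G} [N.Normal] (hR : IsSylowIn r R ⊤)
    (hRN : R ≤ N) {u : G} (hu : IsPEl r u) : u ∈ N := by
  obtain ⟨c, -, hc⟩ := hR.exists_conj_mem hu (mem_top u)
  simpa [mul_assoc] using (inferInstance : N.Normal).conj_mem _ (hRN hc) c⁻¹

/-- If commuting `a`, `b` have coprime class sizes, all their conjugates commute. -/
theorem conj_mem_cz_of_coprime {a b : G} (hab : a ∈ cz b)
    (hcop : (cz b).index.Coprime (cz a).index) (c d : G) :
    c * a * c⁻¹ ∈ cz (d * b * d⁻¹) := by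
  obtain ⟨u, hu, v, hv, huv⟩ := H51.exists_mul_of_coprime_index hcop (d⁻¹ * c)
  have h1 : v * a * v⁻¹ = a := by rw [mem_cz.mp hv, mul_inv_cancel_right]
  have h2 : c * a * c⁻¹ = d * (u * a * u⁻¹) * d⁻¹ := by
    calc c * a * c⁻¹ = d * (d⁻¹ * c) * a * (d⁻¹ * c)⁻¹ * d⁻¹ := by group
      _ = d * (u * (v * a * v⁻¹) * u⁻¹) * d⁻¹ := by rw [huv]; group
      _ = _ := by rw [h1]
  rw [h2, H89.conj_mem_cz_iff]
  exact mul_mem (mul_mem hu hab) (inv_mem hu)

/-- The normal closures of commuting elements of coprime class sizes commute. -/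
theorem normalClosure_commute {a b : G} (hab : a ∈ cz b)
    (hcop : (cz b).index.Coprime (cz a).index) :
    normalClosure ({a} : Set G) ≤ centralizer (normalClosure ({b} : Set G) : Set G) := by
  rw [normalClosure, closure_le]
  rintro a' ha'
  obtain ⟨a0, rfl, hc⟩ := Group.mem_conjugatesOfSet_iff.mp ha'
  obtain ⟨c, rfl⟩ := isConj_iff.mp hc
  show c * a0 * c⁻¹ ∈ centralizer (normalClosure ({b} : Set G) : Set G)
  rw [show normalClosure ({b} : Set G) = closure (Group.conjugatesOfSet {b}) from rfl,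
    centralizer_closure, mem_centralizer_iff]
  intro b' hb'
  obtain ⟨b0, rfl, hc'⟩ := Group.mem_conjugatesOfSet_iff.mp hb'
  obtain ⟨d, rfl⟩ := isConj_iff.mp hc'
  exact (mem_cz.mp (conj_mem_cz_of_coprime hab hcop c d)).symm

omit [Finite G] in
theorem centralizer_inf_index {g k : G} :
    (cz g ⊓ cz k).index = (cz k).relIndex (cz g) * (cz g).index := by
  rw [← relIndex_mul_index (inf_le_left : cz g ⊓ cz k ≤ cz g), inf_relIndex_left]

omit [Finite G] in
theorem centralizer_subgroupOf {K : Subgroup G} (k : K) :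
    centralizer ({k} : Set K) = (cz (k : G)).subgroupOf K := by
  ext a
  rw [mem_subgroupOf, mem_centralizer_singleton_iff, mem_cz, Subtype.ext_iff]
  rfl

omit [Finite G] in
theorem index_centralizer_subgroupOf {K : Subgroup G} (k : K) :
    (centralizer ({k} : Set K)).index = (cz (k : G)).relIndex K := by
  rw [centralizer_subgroupOf]
  rfl

/-- For `g` of index `n`, the coprime centralizing elements have index `1` or `m` in `cz g`. -/
theorem Four.relIndex_of_n (h : Four G n m) {g k : G} (hg : (cz g).index = n) (hk : k ∈ cz g)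
    (hcop : (orderOf g).Coprime (orderOf k)) :
    (cz k).relIndex (cz g) = 1 ∨ (cz k).relIndex (cz g) = m := by
  have hn : 0 < n := by have := h.one_lt_n; omega
  have h1 : (cz (g * k)).index = (cz k).relIndex (cz g) * n := by
    rw [cz_mul hk hcop, centralizer_inf_index, hg]
  rcases h.eq_nm_or_n (g := g * k) (h1 ▸ dvd_mul_left n _) with e | e
  · left
    exact Nat.eq_of_mul_eq_mul_right hn (by rw [← h1, e, one_mul])
  · right
    exact Nat.eq_of_mul_eq_mul_right hn (by rw [← h1, e, Nat.mul_comm])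

end Cfsg.Agent.H86.FourSizes
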