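import Cfsg.Agent.H86.FourSizes.Basic
import Cfsg.Agent.H88.TwoClassSizes
import Cfsg.Agent.H25.Burnside
import Cfsg.Agent.H86.SylowTI
import Cfsg.Agent.S4035
import Cfsg.Agent.S1442
import Mathlib.Algebra.IsPrimePow

/-!
# Class sizes `1`, `n`, `m`, `n m`: a `p`-element of index divisible by `p` gives nilpotency
-/

set_option linter.style.haveILetI false

namespace Cfsg.Agent.H86.FourSizes

open Subgroup
open Cfsg.Agent.H89 (cz IsPEl IsSylowIn mem_cz self_mem_cz mem_cz_comm cz_mul)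

variable {G : Type*} [Group G] [Finite G] {n m : ℕ}

/-- The centralizer of such an element is the product of its Sylow `p`-subgroup and a normal
`p`-complement which has class sizes `1` and `m`. -/
theorem Four.centralizer_split (h : Four G n m) {p : ℕ} [hp : Fact p.Prime] {x : G}
    (hx : IsPEl p x) (hxn : (cz x).index = n) (hpn : p ∣ n) :
    ∃ H : Subgroup G, H ≤ cz x ∧
      (∀ b ∈ cz x, (orderOf b).Coprime p → b ∈ H) ∧
      (∀ a ∈ cz x, IsPEl p a → ∀ b ∈ H, Commute a b) ∧
      (∀ b : H, (centralizer ({b} : Set H)).index = 1 ∨ (centralizer ({b} : Set H)).index = m) ∧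
      ∀ b : H, (centralizer ({b} : Set H)).index = (cz (b : G)).relIndex (cz x) := by
  have hpm : ¬ p ∣ m := h.not_dvd_m hp.out hpn
  set K := cz x with hK
  have hsz : ∀ k : K, (orderOf k).Coprime p →
      (centralizer ({k} : Set K)).index = 1 ∨ (centralizer ({k} : Set K)).index = m := fun k hk => by
    rw [index_centralizer_subgroupOf]
    refine h.relIndex_of_n hxn k.2 ?_
    obtain ⟨a, ha⟩ := hx
    rw [ha, orderOf_coe]
    exact (hk.symm.pow_left a)
  obtain ⟨P⟩ := (inferInstance : Nonempty (Sylow p K))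
  obtain ⟨hPn, H, hHn, hHp, hinf, hsup⟩ := S4035.result (G := K) (p := p) (fun k hk => by
    rw [H86.ncard_carrier_eq_index]
    rcases hsz k hk with e | e <;> rw [e]
    · exact hp.out.not_dvd_one
    · exact hpm) P
  have hHc : ∀ b ∈ H, (orderOf b).Coprime p := fun b hb =>
    ((hp.out.coprime_iff_not_dvd.mpr fun hd => hHp (hd.trans (orderOf_dvd_natCard H hb)))).symm
  have hcomm : ∀ a ∈ (P : Subgroup K), ∀ b ∈ H, Commute a b := fun a ha b hb =>
    commute_of_normal_of_disjoint _ _ hPn hHn (disjoint_iff.mpr hinf) a b ha hb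
  have hmemP : ∀ a : K, IsPEl p a → a ∈ (P : Subgroup K) := by
    rintro a ⟨k, hk⟩
    obtain ⟨Q, hQ⟩ := (IsPGroup.of_card (p := p) (n := k) (G := zpowers a)
      (by rw [Nat.card_zpowers, hk])).exists_le_sylow
    obtain ⟨c, rfl⟩ := MulAction.exists_smul_eq K P Q
    rw [Sylow.smul_eq_of_normal] at hQ
    exact hQ (mem_zpowers a)
  have hmemH : ∀ b : K, (orderOf b).Coprime p → b ∈ H := by
    intro b hb
    obtain ⟨a, ha, c, hc, hac⟩ := mem_sup_of_normal_left.mp (hsup.ge (mem_top b))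
    obtain ⟨k, hk⟩ := H86.exists_orderOf_eq_pow_of_mem P.2 ha
    have hcomm' := hcomm a ha c hc
    have hcop : (orderOf a).Coprime (orderOf c) := hk ▸ (hHc c hc).symm.pow_left k
    have ho := hcomm'.orderOf_mul_eq_mul_orderOf_of_coprime hcop
    rw [hac] at ho
    have h1 : orderOf a = 1 := Nat.eq_one_of_dvd_coprimes ((hb.pow_right k))
      (ho ▸ dvd_mul_right _ _) (hk ▸ dvd_rfl)
    rw [orderOf_eq_one_iff] at h1
    rw [← hac, h1, one_mul]
    exact hc
  have hidx : ∀ b : K, b ∈ H → (centralizer ({b} : Set K)).relIndex H =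
      (centralizer ({b} : Set K)).index := by
    intro b hb
    have htop : centralizer ({b} : Set K) ⊔ H = ⊤ := eq_top_iff.mpr (hsup.ge.trans (sup_le
      (le_trans (fun a ha => mem_centralizer_singleton_iff.mpr (hcomm a ha b hb).eq) le_sup_left)
      le_sup_right))
    have h1 := H89.card_sup_mul_inf_of_le_normalizer (H := centralizer ({b} : Set K)) (K := H)
      (by rw [normalizer_eq_top]; exact le_top)
    rw [htop, card_top] at h1
    have h2 : (centralizer ({b} : Set K) ⊓ H).relIndex H *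
        Nat.card (centralizer ({b} : Set K) ⊓ H : Subgroup K) = Nat.card H := by
      rw [mul_comm, ← Nat.card_congr (subgroupOfEquivOfLe
        (inf_le_right : centralizer ({b} : Set K) ⊓ H ≤ H)).toEquiv]
      exact card_mul_index _
    rw [inf_relIndex_right] at h2
    have h3 := (centralizer ({b} : Set K)).card_mul_index
    rw [← h3, ← h2] at h1
    refine (Nat.eq_of_mul_eq_mul_left (Nat.mul_pos (Nat.card_pos (α := centralizer ({b} : Set K)))
      (Nat.card_pos (α := (centralizer ({b} : Set K) ⊓ H : Subgroup K)))) ?_).symm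
    linarith [h1]
  have hsz' : ∀ b : H.map K.subtype, (centralizer ({b} : Set (H.map K.subtype))).index =
      (cz (b : G)).relIndex K := by
    rintro ⟨_, b, hb, rfl⟩
    rw [index_centralizer_subgroupOf]
    show (cz (b : G)).relIndex (H.map K.subtype) = (cz (b : G)).relIndex K
    rw [← relIndex_comap]
    show ((cz (b : G)).subgroupOf K).relIndex H = (cz (b : G)).relIndex K
    rw [← centralizer_subgroupOf, hidx b hb, index_centralizer_subgroupOf]
  refine ⟨H.map K.subtype, map_subtype_le H, fun b hb hbp => ⟨⟨b, hb⟩, hmemH _ ?_, rfl⟩, ?_, ?_,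
    hsz'⟩
  · rwa [orderOf_mk]
  · rintro a ha hap _ ⟨b, hb, rfl⟩
    have := hcomm ⟨a, ha⟩ (hmemP _ (by rwa [IsPEl, orderOf_mk])) b hb
    exact congrArg Subtype.val this.eq
  · rintro ⟨_, b, hb, rfl⟩
    rw [hsz']
    refine h.relIndex_of_n hxn b.2 ?_
    obtain ⟨a, ha⟩ := hx
    rw [ha]
    exact (orderOf_injective K.subtype K.subtype_injective b).symm ▸ ((hHc b hb).symm.pow_left a)

/-- The other size is a power of a prime `q` and some `q`-element has that size. -/
theorem Four.caseA_side (h : Four G n m) {p : ℕ} [hp : Fact p.Prime] {x : G}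
    (hx : IsPEl p x) (hxn : (cz x).index = n) (hpn : p ∣ n) :
    ∃ (q : ℕ) (y : G), q.Prime ∧ q ∣ m ∧ IsPEl q y ∧ (cz y).index = m ∧ IsPrimePow m := by
  have hpm : ¬ p ∣ m := h.not_dvd_m hp.out hpn
  obtain ⟨H, hHK, hmemH, hcomm, hsz, hidx⟩ := h.centralizer_split hx hxn hpn
  obtain ⟨q, y0, hq, hy0, hy0m⟩ := h.symm.exists_pel_n
  haveI := Fact.mk hq
  obtain ⟨c, hc⟩ := exists_conj_mem_cz (g := y0) (hy0m ▸ hpm) hx
  -- move `y0` into the centralizer of `x`
  set y := c⁻¹ * y0 * c with hy_def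
  have hym : (cz y).index = m := by
    rw [← hy0m, hy_def]
    simpa using H89.index_cz_conj c⁻¹ y0
  have hy : IsPEl q y := by simpa [hy_def] using hy0.conj c⁻¹
  have hyx : y ∈ cz x := by
    rw [mem_cz_comm, ← H89.conj_mem_cz_iff (c := c), hy_def, conj_cancel]
    exact hc
  have hrel : m ∣ (cz y).relIndex (cz x) := by
    have h1 : (cz y).index ∣ (cz x ⊓ cz y).index := index_dvd_of_le inf_le_right
    rw [centralizer_inf_index, hxn, hym] at h1
    exact (h.coprime.symm).dvd_of_dvd_mul_right h1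
  have hqp : q ≠ p := by
    intro e
    rw [e] at hy
    -- the Sylow subgroup and the complement generate `cz x`, the latter centralizes `y`
    have hHy : H ≤ cz y := fun b hb => mem_cz.mpr (hcomm y hyx hy b hb).eq.symm
    have h1 : (cz y).relIndex (cz x) ∣ H.relIndex (cz x) := relIndex_dvd_of_le_left _ hHy
    have h2 : ∀ r : ℕ, r.Prime → r ∣ H.relIndex (cz x) → r = p := by
      intro r hr hd
      by_contra hne
      haveI := Fact.mk hr
      obtain ⟨S⟩ := (inferInstance : Nonempty (Sylow r (cz x)))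
      refine S.not_dvd_index (hd.trans (index_dvd_of_le (H := (S : Subgroup (cz x))) (K := H.subgroupOf (cz x)) ?_))
      intro b hb
      obtain ⟨k, hk⟩ := H86.exists_orderOf_eq_pow_of_mem S.2 hb
      exact hmemH b b.2 (by rw [orderOf_coe, hk]; exact ((Nat.coprime_primes hr hp.out).mpr hne).pow_left k)
    obtain ⟨r, hr, hrm⟩ := Nat.exists_prime_and_dvd h.one_lt_m.ne'
    exact hpm (h2 r hr ((hrm.trans hrel).trans h1) ▸ hrm)
  have hyH : y ∈ H := hmemH y hyx (by
    obtain ⟨k, hk⟩ := hy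
    rw [hk]; exact ((Nat.coprime_primes hq hp.out).mpr hqp).pow_left k)
  have hyH_m : (centralizer ({⟨y, hyH⟩} : Set H)).index = m := by
    refine (hsz _).resolve_left fun e => ?_
    rw [hidx] at e
    exact h.one_lt_m.ne' (Nat.eq_one_of_dvd_one (e ▸ hrel))
  obtain ⟨r, b, hr, hb, hmr⟩ :=
    H88.exists_prime_pow_of_two_sizes (G := H) m h.one_lt_m hsz ⟨_, hyH_m⟩
  refine ⟨q, y, hq, ?_, hy, hym, hmr ▸ (hr.isPrimePow.pow hb.ne')⟩
  by_contra hqm
  obtain ⟨S, hS⟩ := (hy.isPGroup_zpowers.of_equiv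
    (subgroupOfEquivOfLe (zpowers_le.mpr hyH)).symm).exists_le_sylow
  have hZ : (⟨y, hyH⟩ : H) ∈ center H := H89.le_center_of_not_vertex S (fun g hd => by
    rcases hsz g with e | e <;> rw [e] at hd
    · exact hq.not_dvd_one hd
    · exact hqm hd) (hS (mem_zpowers y))
  rw [H89.index_cz_eq_one_iff.mpr hZ] at hyH_m
  exact h.one_lt_m.ne hyH_m

/-- Every `q`-element centralizes the `p`-core. -/
theorem Four.commute_pCore (h : Four G n m) {p a q : ℕ} [hp : Fact p.Prime] [hq : Fact q.Prime]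
    {x : G} (hx : IsPEl p x) (hxn : (cz x).index = n) (hn : n = p ^ a) (hqn : ¬ q ∣ n)
    {e : G} (he : IsPEl q e) : e ∈ centralizer (Cfsg.pCore p G : Set G) := by
  have hpn : p ∣ n := by
    obtain ⟨r, hr, hrn⟩ := Nat.exists_prime_and_dvd h.one_lt_n.ne'
    exact (Nat.prime_dvd_prime_iff_eq hr hp.out).mp (hr.dvd_of_dvd_pow (hn ▸ hrn)) ▸ hrn
  have hqp : q ≠ p := fun e => hqn (e ▸ hpn)
  obtain ⟨H, hHK, hmemH, hcomm, -, -⟩ := h.centralizer_split hx hxn hpn
  set U := Cfsg.pCore p G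
  haveI : U.Normal := H19.pCore_normal p G
  have hUp : IsPGroup p U := H19.pCore_isPGroup p
  have hxU : x ∈ U := by
    simp only [U, H19.pCore_eq_iInf_sylow, mem_iInf]
    exact fun P => H88.mem_sylow_of_pPower_index x hx a (hxn.trans hn) P
  obtain ⟨Q, hQ, hQle⟩ := H89.exists_sylowTop_le (q := q) (y := x) (hxn ▸ hqn)
  refine pel_mem_of_normal hQ ?_ he
  intro e' he'
  have heq : IsPEl q e' := IsPEl.of_mem hQ.isPGroup he'
  have hec : (orderOf e').Coprime p := by
    obtain ⟨k, hk⟩ := heq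
    rw [hk]; exact ((Nat.coprime_primes hq.out hp.out).mpr hqp).pow_left k
  have heH : e' ∈ H := hmemH e' (hQle he') hec
  have hz : centralizer (zpowers e' : Set G) = cz e' := by
    rw [zpowers_eq_closure, centralizer_closure]
  have hle : zpowers e' ≤ centralizer (U : Set G) := by
    refine S1442.result U (zpowers e') hUp.isNilpotent (by rw [normalizer_eq_top]; exact le_top) ?_ ?_
    · obtain ⟨k, hk⟩ := IsPGroup.iff_card.mp hUp
      rw [Nat.card_zpowers, hk]; exact hec.pow_right k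
    · rintro u ⟨hu, hu'⟩
      refine ⟨hu, hz ▸ mem_cz.mpr (hcomm u ?_ (IsPEl.of_mem hUp hu) e' heH).eq⟩
      exact mem_cz.mpr (mem_centralizer_iff.mp hu' x ⟨hxU, hz ▸ mem_cz_comm.mp (hQle he')⟩).symm
  exact hle (mem_zpowers e')

/-- The commutator of two elements of prime power order falls into a core. -/
theorem mem_qCore_of_fitting {q : ℕ} [hq : Fact q.Prime] {a b : G} (hb : IsPEl q b)
    (hc : b⁻¹ * (a⁻¹ * b * a) ∈ Cfsg.fittingSubgroup G)
    (hcores : ∀ r : ℕ, r.Prime → r ≠ q → Cfsg.pCore r G ≤ cz b) :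
    b⁻¹ * (a⁻¹ * b * a) ∈ Cfsg.pCore q G := by
  set c := b⁻¹ * (a⁻¹ * b * a) with hc_def
  obtain ⟨c1, c2, hc1, hc2, hmul, ho1, ho2⟩ :=
    H86.exists_pPart_mul_pPrimePart c (isOfFinOrder_of_finite c) hq.out
  have hF : zpowers c ≤ Cfsg.fittingSubgroup G := zpowers_le.mpr hc
  set V := Cfsg.pCore q G
  haveI : V.Normal := H19.pCore_normal q G
  have hc1V : c1 ∈ V := H89.mem_pCore_of_pel_fitting (hF hc1) ho1
  have h2b : Commute c2 b := mem_cz.mp (H89.mem_of_primaryParts (cz b) c2 fun r hr hrd => by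
    haveI := Fact.mk hr
    have hrq : r ≠ q := fun e => (hq.out.coprime_iff_not_dvd.mp ho2.symm) (e ▸ hrd)
    obtain ⟨k, -, hk⟩ := (Nat.dvd_prime_pow hr).mp (H89.orderOf_primaryPart_dvd r c2)
    exact hcores r hr hrq (H89.mem_pCore_of_pel_fitting (pow_mem (hF hc2) _) ⟨k, hk⟩))
  have h21 : Commute c2 c1 := by
    obtain ⟨i, rfl⟩ := mem_zpowers_iff.mp hc2
    obtain ⟨j, rfl⟩ := mem_zpowers_iff.mp hc1
    exact Commute.zpow_zpow_self c i j
  have hgrp : IsPGroup q (V ⊔ zpowers b : Subgroup G) :=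
    (H19.pCore_isPGroup (G := G) q).to_sup_of_normal_left hb.isPGroup_zpowers
  obtain ⟨i, hi⟩ : IsPEl q (b * c1) :=
    IsPEl.of_mem hgrp (mul_mem (mem_sup_right (mem_zpowers b)) (mem_sup_left hc1V))
  obtain ⟨j, hj⟩ : IsPEl q (a⁻¹ * b * a) := by simpa using hb.conj a⁻¹
  have e : c2 = (b * c1)⁻¹ * (a⁻¹ * b * a) := by
    rw [show a⁻¹ * b * a = b * c by rw [hc_def]; group, ← hmul]; group
  have hcom : Commute (b * c1)⁻¹ (a⁻¹ * b * a) := by
    rw [show a⁻¹ * b * a = b * c1 * c2 by rw [mul_assoc b c1 c2, hmul, hc_def]; group]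
    exact ((Commute.refl (b * c1)).mul_right (h2b.mul_right h21).symm).inv_left
  have hd : orderOf c2 ∣ q ^ (i + j) := by
    rw [e]
    refine hcom.orderOf_mul_dvd_mul_orderOf.trans ?_
    rw [orderOf_inv, hi, hj, pow_add]
  have hone := Nat.eq_one_of_dvd_coprimes (ho2.pow_right (i + j)) dvd_rfl hd
  rw [orderOf_eq_one_iff] at hone
  rw [← hmul, hone, mul_one]
  exact hc1V

/-- Case A: a `p`-element of index `n` with `p ∣ n`. -/
theorem Four.caseA (h : Four G n m) {p : ℕ} [hp : Fact p.Prime] {x : G}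
    (hx : IsPEl p x) (hxn : (cz x).index = n) (hpn : p ∣ n) :
    Group.IsNilpotent G ∧ IsPrimePow n ∧ IsPrimePow m := by
  obtain ⟨q, y, hq, hqm, hy, hym, hmpow⟩ := h.caseA_side hx hxn hpn
  haveI := Fact.mk hq
  obtain ⟨-, -, -, -, -, -, hnpow⟩ := h.symm.caseA_side hy hym hqm
  refine ⟨?_, hnpow, hmpow⟩
  have hqn : ¬ q ∣ n := h.symm.not_dvd_m hq hqm
  have hpm : ¬ p ∣ m := h.not_dvd_m hp.out hpn
  have hpq : p ≠ q := fun e => hqn (e ▸ hpn)
  obtain ⟨p', a, hp', -, hna⟩ := (isPrimePow_nat_iff n).mp hnpow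
  obtain ⟨q', b, hq', -, hmb⟩ := (isPrimePow_nat_iff m).mp hmpow
  obtain rfl := (Nat.prime_dvd_prime_iff_eq hp.out hp').mp (hp.out.dvd_of_dvd_pow (hna ▸ hpn))
  obtain rfl := (Nat.prime_dvd_prime_iff_eq hq hq').mp (hq.dvd_of_dvd_pow (hmb ▸ hqm))
  have hsylC : ∀ r : ℕ, r.Prime → r ≠ p → r ≠ q → ∀ u : G, IsPEl r u → u ∈ center G := by
    intro r hr hrp hrq u hu
    haveI := Fact.mk hr
    obtain ⟨R, hR⟩ := hu.isPGroup_zpowers.exists_le_sylow
    refine H89.le_center_of_not_vertex R (fun g hd => ?_) (hR (mem_zpowers u))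
    rcases hr.dvd_mul.mp (hd.trans (h.index_dvd g)) with e | e
    · exact hrp ((Nat.prime_dvd_prime_iff_eq hr hp.out).mp (hr.dvd_of_dvd_pow (hna ▸ e)))
    · exact hrq ((Nat.prime_dvd_prime_iff_eq hr hq).mp (hr.dvd_of_dvd_pow (hmb ▸ e)))
  have hU : ∀ e : G, IsPEl q e → e ∈ centralizer (Cfsg.pCore p G : Set G) := fun e he =>
    h.commute_pCore hx hxn hna.symm hqn he
  have hV : ∀ e : G, IsPEl p e → e ∈ centralizer (Cfsg.pCore q G : Set G) := fun e he =>
    h.symm.commute_pCore hy hym hmb.symm hpm he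
  haveI := H19.pCore_normal p G
  haveI := H19.pCore_normal q G
  -- solvable
  haveI : Group.IsSolvable G := by
    have hquot : Group.IsSolvable (G ⧸ center G) := by
      refine H25.isSolvable_of_card_eq_mul_pow (p := p) (q := q)
        (a := (Nat.card (G ⧸ center G)).factorization p)
        (b := (Nat.card (G ⧸ center G)).factorization q) hp.out hq ?_
      apply Nat.eq_of_factorization_eq Nat.card_pos.ne' (mul_ne_zero (pow_ne_zero _ hp.out.ne_zero) (pow_ne_zero _ hq.ne_zero))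
      intro r
      rw [Nat.factorization_mul (pow_ne_zero _ hp.out.ne_zero) (pow_ne_zero _ hq.ne_zero),
        Finsupp.add_apply, hp.out.factorization_pow, hq.factorization_pow]
      by_cases hrp : r = p
      · subst hrp; simp [hpq]
      by_cases hrq : r = q
      · subst hrq; simp [Ne.symm hpq]
      simp only [Finsupp.single_eq_of_ne hrp, Finsupp.single_eq_of_ne hrq, add_zero]
      by_cases hr : r.Prime
      · haveI := Fact.mk hr
        refine Nat.factorization_eq_zero_of_not_dvd fun hd => ?_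
        obtain ⟨R⟩ := (inferInstance : Nonempty (Sylow r G))
        rw [← index_eq_card] at hd
        exact R.not_dvd_index (hd.trans (index_dvd_of_le fun u hu =>
          hsylC r hr hrp hrq u (IsPEl.of_mem R.2 hu)))
      · exact Nat.factorization_eq_zero_of_not_prime _ hr
    haveI : Group.IsSolvable (center G) :=
      Group.isSolvable_of_comm fun a b => Subtype.ext (mem_center_iff.mp b.2 a)
    exact Group.isSolvable_of_ker_le_range (center G).subtype (QuotientGroup.mk' (center G)) (by simp)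
  have key : ∀ {a b : G}, IsPEl p a → IsPEl q b → Commute a b := by
    intro a b ha hb
    set c := b⁻¹ * (a⁻¹ * b * a) with hc_def
    have hb' : IsPEl q (a⁻¹ * b * a) := by simpa using hb.conj a⁻¹
    have ha' : IsPEl p (b⁻¹ * a * b) := by simpa using ha.conj b⁻¹
    have hcU : c ∈ centralizer (Cfsg.pCore p G : Set G) :=
      mul_mem (inv_mem (hU b hb)) (hU _ hb')
    have hcV : c ∈ centralizer (Cfsg.pCore q G : Set G) := by
      rw [show c = (b⁻¹ * a * b)⁻¹ * a by rw [hc_def]; group]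
      exact mul_mem (inv_mem (hV _ ha')) (hV a ha)
    have hother : ∀ r : ℕ, r.Prime → r ≠ p → r ≠ q → Cfsg.pCore r G ≤ center G :=
      fun r hr hrp hrq u hu => by
        haveI := Fact.mk hr
        exact hsylC r hr hrp hrq u (IsPEl.of_mem (H19.pCore_isPGroup r) hu)
    have hcF : c ∈ Cfsg.fittingSubgroup G := by
      refine H19.centralizer_fitting_le ?_
      suffices hle : Cfsg.fittingSubgroup G ≤ cz c from
        mem_centralizer_iff.mpr fun f hf => mem_cz.mp (hle hf)
      rw [H19.fitting_eq_iSup_pCore]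
      refine iSup_le fun r u hu => ?_
      by_cases hrp : (r : ℕ) = p
      · exact mem_cz.mpr (mem_centralizer_iff.mp hcU u (hrp ▸ hu))
      by_cases hrq : (r : ℕ) = q
      · exact mem_cz.mpr (mem_centralizer_iff.mp hcV u (hrq ▸ hu))
      exact H89.center_le_cz c (hother r r.2 hrp hrq hu)
    have h1 : c ∈ Cfsg.pCore q G := mem_qCore_of_fitting hb hcF (fun r hr hrq u hu => by
      by_cases hrp : r = p
      · exact mem_cz.mpr (mem_centralizer_iff.mp (hU b hb) u (hrp ▸ hu))
      · exact H89.center_le_cz b (hother r hr hrp hrq hu))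
    have hcinv : c⁻¹ = a⁻¹ * (b⁻¹ * a * b) := by rw [hc_def]; group
    have h2 : a⁻¹ * (b⁻¹ * a * b) ∈ Cfsg.pCore p G :=
      mem_qCore_of_fitting ha (hcinv ▸ inv_mem hcF) (fun r hr hrp u hu => by
        by_cases hrq : r = q
        · exact mem_cz.mpr (mem_centralizer_iff.mp (hV a ha) u (hrq ▸ hu))
        · exact H89.center_le_cz a (hother r hr hrp hrq hu))
    have h3 : c ∈ Cfsg.pCore p G ⊓ Cfsg.pCore q G :=
      mem_inf.mpr ⟨inv_mem_iff.mp (hcinv.symm ▸ h2 : c⁻¹ ∈ Cfsg.pCore p G), h1⟩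
    rw [(IsPGroup.disjoint_of_ne p q hpq _ _ (H19.pCore_isPGroup p) (H19.pCore_isPGroup q)).eq_bot,
      mem_bot, hc_def, inv_mul_eq_one] at h3
    show a * b = b * a
    calc a * b = a * (a⁻¹ * b * a) := by rw [← h3]
      _ = b * a := by group
  refine (Group.isNilpotent_of_finite_tfae.out 0 3).mpr fun r hr R => ?_
  haveI := hr
  rw [← normalizer_eq_top_iff]
  refine H86.eq_top_of_forall_sylow_le _ fun s hs _ => ?_
  haveI := Fact.mk hs
  obtain ⟨S⟩ := (inferInstance : Nonempty (Sylow s G))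
  by_cases hsr : s = r
  · subst hsr; exact ⟨R, le_normalizer⟩
  refine ⟨S, fun u hu => centralizer_le_normalizer _ (mem_centralizer_iff.mpr fun v hv => ?_)⟩
  have hu' : IsPEl s u := IsPEl.of_mem S.2 hu
  have hv' : IsPEl r v := IsPEl.of_mem R.2 hv
  rcases eq_or_ne s p with rfl | hsp
  · rcases eq_or_ne r q with rfl | hrq
    · exact (key hu' hv').eq.symm
    · exact (mem_center_iff.mp (hsylC r hr.out (Ne.symm hsr) hrq v hv') u).symm
  rcases eq_or_ne s q with rfl | hsq
  · rcases eq_or_ne r p with rfl | hrp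
    · exact (key hv' hu').eq
    · exact (mem_center_iff.mp (hsylC r hr.out hrp (Ne.symm hsr) v hv') u).symm
  exact mem_center_iff.mp (hsylC s hs hsp hsq u hu') v

end Cfsg.Agent.H86.FourSizes
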