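import Cfsg.Agent.H86.FourSizes.Basic
import Cfsg.Agent.H86.SylowTI
import Cfsg.Agent.H32.Basic

/-!
# Class sizes `1`, `n`, `m`, `n m`, no element of index `n` of a prime dividing `n`:
# a commuting pair and the two normal closures
-/

set_option linter.style.haveILetI false

namespace Cfsg.Agent.H86.FourSizes

open Subgroup
open scoped Pointwise
open Cfsg.Agent.H89 (cz IsPEl IsSylowIn mem_cz self_mem_cz mem_cz_comm cz_mul)

/-- The elements of index `n` have orders prime to `n`, and the same for `m`. -/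
structure CaseB (G : Type*) [Group G] (n m : ℕ) : Prop extends Four G n m where
  no_n : ∀ (p : ℕ) (x : G), p.Prime → IsPEl p x → (cz x).index = n → ¬ p ∣ n
  no_m : ∀ (q : ℕ) (y : G), q.Prime → IsPEl q y → (cz y).index = m → ¬ q ∣ m

variable {G : Type*} [Group G] {n m : ℕ}

theorem CaseB.symm (h : CaseB G n m) : CaseB G m n :=
  ⟨h.toFour.symm, h.no_m, h.no_n⟩

variable [Finite G]

/-- The prime of an element of index `n` divides `m`. -/
theorem CaseB.dvd_m (h : CaseB G n m) {p : ℕ} [hp : Fact p.Prime] {x : G} (hx : IsPEl p x)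
    (hxn : (cz x).index = n) : p ∣ m := by
  by_contra hpm
  obtain ⟨R, hR⟩ := hx.isPGroup_zpowers.exists_le_sylow
  refine h.toFour.notMem_center hxn (H89.le_center_of_not_vertex R (fun g hd => ?_) (hR (mem_zpowers x)))
  rcases hp.out.dvd_mul.mp (hd.trans (h.toFour.index_dvd g)) with e | e
  · exact h.no_n p x hp.out hx hxn e
  · exact hpm e

/-- A noncentral `r`-element in a centralizer of smaller index. -/
theorem exists_pel_cz {r : ℕ} [hr : Fact r.Prime] {g g0 x : G} (hxg : x ∈ cz g0) (hx : IsPEl r x)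
    (hxZ : x ∉ center G)
    (hle : (cz g).index.factorization r ≤ (cz g0).index.factorization r) :
    ∃ u ∈ cz g, u ∉ center G ∧ IsPEl r u := by
  by_contra hcon
  push Not at hcon
  obtain ⟨S, hS, -⟩ := H89.exists_isSylowIn (IsPGroup.of_bot : IsPGroup r (⊥ : Subgroup G))
    (bot_le : ⊥ ≤ cz g)
  have hSZ : S ≤ center G := fun u hu => by
    by_contra huZ
    exact hcon u (hS.1 hu) huZ (IsPEl.of_mem hS.isPGroup hu)
  have hj : S ⊔ zpowers x ≤ cz g0 :=
    sup_le (hSZ.trans (H89.center_le_cz g0)) (zpowers_le.mpr hxg)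
  haveI : S.Normal := ⟨fun u hu c => by
    rw [mem_center_iff.mp (hSZ hu) c, mul_inv_cancel_right]; exact hu⟩
  have hp' : IsPGroup r (S ⊔ zpowers x : Subgroup G) :=
    hS.isPGroup.to_sup_of_normal_left hx.isPGroup_zpowers
  have hcard := H89.card_dvd_ordProj hp' hj
  have h1 := H89.OneMMn.factorization_cz r g
  have h2 := H89.OneMMn.factorization_cz r g0
  have heq : S = S ⊔ zpowers x := Subgroup.eq_of_le_of_card_ge le_sup_left (by
    rw [hS.2]
    exact (Nat.le_of_dvd (pow_pos hr.out.pos _) hcard).trans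
      (Nat.pow_le_pow_right hr.out.pos (by omega)))
  exact hxZ (hSZ (heq.ge (mem_sup_right (mem_zpowers x))))

/-- Commuting primary elements of index `n` and `m`. -/
structure IsPair (G : Type*) [Group G] (n m p q : ℕ) (x y : G) : Prop where
  prime_p : p.Prime
  prime_q : q.Prime
  pel_x : IsPEl p x
  pel_y : IsPEl q y
  index_x : (cz x).index = n
  index_y : (cz y).index = m
  comm : y ∈ cz x

omit [Finite G] in
theorem IsPair.symm {p q : ℕ} {x y : G} (P : IsPair G n m p q x y) : IsPair G m n q p y x :=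
  ⟨P.prime_q, P.prime_p, P.pel_y, P.pel_x, P.index_y, P.index_x, mem_cz_comm.mp P.comm⟩

theorem CaseB.exists_pair_of_dvd (h : CaseB G n m) {r : ℕ} [hr : Fact r.Prime] (hrn : r ∣ n)
    {g w : G} (hg : (cz g).index = n * m) (hwg : w ∈ cz g) (hw : IsPEl r w)
    (hwZ : w ∉ center G) : ∃ p q x y, IsPair G n m p q x y := by
  obtain ⟨p, x, hp, hx, hxn⟩ := h.toFour.exists_pel_n
  haveI := Fact.mk hp
  have hn0 : n ≠ 0 := by have := h.one_lt_n; omega
  have hm0 : m ≠ 0 := by have := h.one_lt_m; omega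
  obtain ⟨e, hex, heZ, he⟩ := exists_pel_cz (g := x) hwg hw hwZ (by
    rw [hxn, hg, Nat.factorization_mul hn0 hm0, Finsupp.add_apply]; omega)
  rcases h.toFour.cases_nc heZ with e1 | e1 | e1
  · exact absurd hrn (h.no_n r e hr.out he e1)
  · exact ⟨p, r, x, e, hp, hr.out, hx, he, hxn, e1, hex⟩
  obtain ⟨q, y, hq, hy, hym⟩ := h.symm.toFour.exists_pel_n
  have hrp : r ≠ p := fun e0 => h.no_n p x hp hx hxn (e0 ▸ hrn)
  have hle : cz e ≤ cz x := by
    have h1 := cz_mul hex (IsPEl.coprime_pel hp hr.out (Ne.symm hrp) hx he)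
    have h2 : cz x ⊓ cz e = cz e := eq_of_le_of_index_dvd inf_le_right
      (e1 ▸ h1 ▸ h.toFour.index_dvd _)
    exact h2.ge.trans inf_le_left
  obtain ⟨c, hc⟩ := exists_conj_mem_cz (g := y) (hym ▸ h.toFour.not_dvd_m hr.out hrn) he
  refine ⟨p, q, x, c⁻¹ * y * c, hp, hq, hx, by simpa using hy.conj c⁻¹, hxn, ?_, hle ?_⟩
  · rw [← hym]; simpa using H89.index_cz_conj c⁻¹ y
  · rw [mem_cz_comm, ← H89.conj_mem_cz_iff (c := c), conj_cancel]
    exact hc

theorem CaseB.exists_pair (h : CaseB G n m) : ∃ p q x y, IsPair G n m p q x y := by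
  obtain ⟨g, hg⟩ := h.exists_nm
  obtain ⟨r, u, hr, hu, huZ, hug, -⟩ :=
    H89.exists_primary_noncentral (h.toFour.notMem_center_nm hg)
  haveI := Fact.mk hr
  by_cases hrn : r ∣ n
  · exact h.exists_pair_of_dvd hrn hg hug hu huZ
  have hrm : r ∣ m := by
    by_contra hrm
    obtain ⟨R, hR⟩ := hu.isPGroup_zpowers.exists_le_sylow
    refine huZ (H89.le_center_of_not_vertex R (fun a hd => ?_) (hR (mem_zpowers u)))
    exact (hr.dvd_mul.mp (hd.trans (h.toFour.index_dvd a))).elim hrn hrm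
  obtain ⟨p, q, x, y, P⟩ := h.symm.exists_pair_of_dvd hrm (by rw [hg, Nat.mul_comm]) hug hu huZ
  exact ⟨q, p, y, x, P.symm⟩

/-- The normal closure of an element. -/
abbrev ncl (x : G) : Subgroup G := normalClosure ({x} : Set G)

omit [Finite G] in
theorem mem_ncl (x : G) : x ∈ ncl x := subset_normalClosure rfl

theorem IsPair.ncl_commute {p q : ℕ} {x y : G} (h : Four G n m) (P : IsPair G n m p q x y) :
    ncl x ≤ centralizer (ncl y : Set G) :=
  normalClosure_commute (mem_cz_comm.mp P.comm) (by rw [P.index_x, P.index_y]; exact h.coprime.symm)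

theorem IsPair.ncl_le_cz {p q : ℕ} {x y : G} (h : Four G n m) (P : IsPair G n m p q x y) :
    ncl x ≤ cz y :=
  fun _ ha => mem_cz.mpr (mem_centralizer_iff.mp (P.ncl_commute h ha) y (mem_ncl y)).symm

omit [Finite G] in
theorem ncl_abelian_of_mem_centralizer {x : G} (h : x ∈ centralizer (ncl x : Set G)) :
    ncl x ≤ centralizer (ncl x : Set G) :=
  normalClosure_le_normal (Set.singleton_subset_iff.mpr h)

/-- (i) If the `q`-elements of `ncl x` are central in it, it is abelian. -/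
theorem CaseB.abelian_of_q_central (h : CaseB G n m) {p q : ℕ} {x y : G}
    (P : IsPair G n m p q x y)
    (hc : ∀ w ∈ ncl x, IsPEl q w → w ∈ centralizer (ncl x : Set G)) :
    ncl x ≤ centralizer (ncl x : Set G) := by
  haveI := Fact.mk P.prime_p
  haveI := Fact.mk P.prime_q
  have hpn : ¬ p ∣ n := h.no_n p x P.prime_p P.pel_x P.index_x
  set N := ncl x
  have hNL : N ≤ cz y := P.ncl_le_cz h.toFour
  obtain ⟨R, hR⟩ : ∃ R : Sylow p N, (⟨x, mem_ncl x⟩ : N) ∈ (R : Subgroup N) := by
    obtain ⟨R, hR⟩ := (P.pel_x.isPGroup_zpowers.of_equiv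
      (subgroupOfEquivOfLe (zpowers_le.mpr (mem_ncl x : x ∈ N))).symm).exists_le_sylow
    exact ⟨R, hR (mem_zpowers x)⟩
  have hx := H89.le_center_of_not_vertex R (fun g => ?_) hR
  · refine ncl_abelian_of_mem_centralizer (mem_centralizer_iff.mpr fun a ha => ?_)
    exact congrArg Subtype.val (mem_center_iff.mp hx ⟨a, ha⟩)
  obtain ⟨g1, g2, hg1, hg2, hmul, ho1, ho2⟩ :=
    H86.exists_pPart_mul_pPrimePart (g : G) (isOfFinOrder_of_finite _) P.prime_q
  have hg1N : g1 ∈ N := zpowers_le.mpr g.2 hg1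
  have hg2N : g2 ∈ N := zpowers_le.mpr g.2 hg2
  have hz : (⟨g1, hg1N⟩ : N) ∈ center N :=
    mem_center_iff.mpr fun a => Subtype.ext (mem_centralizer_iff.mp (hc g1 hg1N ho1) a a.2)
  have hg : g = ⟨g2, hg2N⟩ * ⟨g1, hg1N⟩ :=
    (mem_center_iff.mp hz ⟨g2, hg2N⟩).symm ▸ Subtype.ext hmul.symm
  rw [hg, H88.centralizer_mul_central hz, index_centralizer_subgroupOf]
  intro hd
  obtain ⟨k, hk⟩ := P.pel_y
  have hd1 : (cz g2).relIndex N ∣ (cz g2).relIndex (cz y) := by
    rw [← relIndex_subgroupOf (H := cz g2) hNL]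
    haveI : (N.subgroupOf (cz y)).Normal := (inferInstance : N.Normal).subgroupOf _
    exact H32.relIndex_dvd_index' _ _
  rcases h.toFour.symm.relIndex_of_n P.index_y (hNL hg2N) (hk ▸ ho2.symm.pow_left k) with e | e
  · exact P.prime_p.not_dvd_one (e ▸ hd.trans hd1)
  · exact hpn (e ▸ hd.trans hd1)

/-- (ii) A noncentral `q`-element of index `n m` in `ncl x` makes `ncl y` abelian. -/
theorem CaseB.abelian_of_nm (h : CaseB G n m) {p q : ℕ} {x y : G} (P : IsPair G n m p q x y)
    {w : G} (hwN : w ∈ ncl x) (hw : IsPEl q w) (hwi : (cz w).index = n * m) :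
    ncl y ≤ centralizer (ncl y : Set G) := by
  haveI := Fact.mk P.prime_q
  set M := ncl y with hM
  have hMw : M ≤ cz w := fun a ha =>
    mem_cz.mpr (mem_centralizer_iff.mp (P.ncl_commute h.toFour hwN) a ha)
  have hreg : ∀ e ∈ M, ¬ q ∣ orderOf e → e ∈ centralizer (M : Set G) := by
    intro e he hqe
    have h1 := cz_mul (hMw he) (hw.coprime P.prime_q hqe)
    have h2 : cz w ⊓ cz e = cz w := eq_of_le_of_index_dvd inf_le_left
      (hwi ▸ h1 ▸ h.toFour.index_dvd _)
    exact mem_centralizer_iff.mpr fun a ha => mem_cz.mp ((h2.ge.trans inf_le_right) (hMw ha))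
  obtain ⟨Q, hQ, hyQ, hQy⟩ := exists_sylow_central (r := q) (g := y)
    (P.index_y ▸ h.no_m q y P.prime_q P.pel_y P.index_y) P.pel_y
  have hQM : IsSylowIn q (Q ⊓ M) M := hQ.inf_of_le_normalizer (by rw [normalizer_eq_top]; exact le_top)
  have htop : (Q ⊓ M).subgroupOf M ⊔ center M = ⊤ := by
    refine H86.eq_top_of_forall_sylow_le _ fun r hr _ => ?_
    haveI := Fact.mk hr
    by_cases hrq : r = q
    · subst hrq
      refine ⟨Sylow.ofCard ((Q ⊓ M).subgroupOf M) ?_, by rw [Sylow.coe_ofCard]; exact le_sup_left⟩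
      rw [Nat.card_congr (subgroupOfEquivOfLe hQM.1).toEquiv, hQM.2]
    · obtain ⟨R⟩ := (inferInstance : Nonempty (Sylow r M))
      refine ⟨R, fun e he => mem_sup_right (mem_center_iff.mpr fun a => Subtype.ext ?_)⟩
      obtain ⟨k, hk⟩ := H86.exists_orderOf_eq_pow_of_mem R.2 he
      exact mem_centralizer_iff.mp (hreg e e.2 (by
        rw [orderOf_coe, hk]
        exact fun hd => hrq ((Nat.prime_dvd_prime_iff_eq P.prime_q hr).mp
          (P.prime_q.dvd_of_dvd_pow hd)).symm)) a a.2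
  refine ncl_abelian_of_mem_centralizer ?_
  rw [ncl, normalClosure, centralizer_closure, mem_centralizer_iff]
  intro b hb
  obtain ⟨y0, hy0, hconj⟩ := Group.mem_conjugatesOfSet_iff.mp hb
  rw [Set.mem_singleton_iff] at hy0
  rw [hy0] at hconj
  have hbM : b ∈ M := conjugatesOfSet_subset_normalClosure hb
  obtain ⟨d, rfl⟩ := isConj_iff.mp hconj
  obtain ⟨c, hc, hcb⟩ := hQM.exists_conj_mem (P.pel_y.conj d) hbM
  obtain ⟨a, ha, z, hz, hcz⟩ := mem_sup_of_normal_right.mp (htop.ge (mem_top (⟨c, hc⟩ : M)))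
  have hca : c = (a : G) * z := congrArg Subtype.val hcz.symm
  have hzb : (z : G) * (d * y * d⁻¹) * (z : G)⁻¹ = d * y * d⁻¹ := by
    rw [show (z : G) * (d * y * d⁻¹) = d * y * d⁻¹ * z from
      (congrArg Subtype.val (mem_center_iff.mp hz ⟨_, hbM⟩)).symm, mul_inv_cancel_right]
  have h3 : (a : G) * (d * y * d⁻¹) * (a : G)⁻¹ ∈ Q := by
    have h4 := hcb.1
    rw [hca, show (a : G) * z * (d * y * d⁻¹) * ((a : G) * z)⁻¹ =
      (a : G) * ((z : G) * (d * y * d⁻¹) * (z : G)⁻¹) * (a : G)⁻¹ by group, hzb] at h4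
    exact h4
  have h5 : d * y * d⁻¹ ∈ Q := by
    simpa [mul_assoc] using Q.mul_mem (Q.mul_mem (Q.inv_mem (mem_subgroupOf.mp ha).1) h3)
      (mem_subgroupOf.mp ha).1
  exact mem_cz.mp (hQy h5)

/-- (iii) Both normal closures nonabelian is impossible if `ncl y` has a noncentral `p`-element of
index `n`. -/
theorem CaseB.false_of_n (h : CaseB G n m) {p q : ℕ} {x y : G} (P : IsPair G n m p q x y)
    {v : G} (hvM : v ∈ ncl y) (hv : IsPEl p v) (hvn : (cz v).index = n)
    (hvc : v ∉ centralizer (ncl y : Set G)) (hxc : x ∉ centralizer (ncl x : Set G)) : False := by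
  classical
  haveI := Fact.mk P.prime_p
  have hpn : ¬ p ∣ n := h.no_n p x P.prime_p P.pel_x P.index_x
  have hpm : p ∣ m := h.dvd_m P.pel_x P.index_x
  obtain ⟨S, hS, hxS, hSx⟩ := exists_sylow_central (P.index_x ▸ hpn) P.pel_x
  obtain ⟨S2, hS2, hvS2, hS2v⟩ := exists_sylow_central (hvn ▸ hpn) hv
  obtain ⟨c, -, hc⟩ := hS2.exists_conj hS
  set M := ncl y
  set N := ncl x
  -- move `v` into the same Sylow subgroup
  set v' := c * v * c⁻¹
  have hv'M : v' ∈ M := (inferInstance : M.Normal).conj_mem v hvM c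
  have hv'S : v' ∈ S := hc ▸ smul_mem_pointwise_smul v (MulAut.conj c) S2 hvS2
  have hSv' : S ≤ cz v' := by
    rw [← H89.smul_cz, ← hc]
    exact pointwise_smul_le_pointwise_smul_iff.mpr hS2v
  have hv'c : v' ∉ centralizer (M : Set G) := fun h' => hvc (by
    simpa [v', mul_assoc] using
      (inferInstance : (centralizer (M : Set G)).Normal).conj_mem v' h' c⁻¹)
  have hNM : ∀ a ∈ N, ∀ b ∈ M, Commute b a := fun a ha b hb =>
    mem_centralizer_iff.mp (P.ncl_commute h.toFour ha) b hb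
  set C := cz (x * v')
  have hSC : S ≤ C := fun s hs =>
    mem_cz.mpr (Commute.mul_right (mem_cz.mp (hSx hs)) (mem_cz.mp (hSv' hs))).eq
  have hxv : IsPEl p (x * v') := IsPEl.of_mem hS.isPGroup (mul_mem hxS hv'S)
  have hxvZ : x * v' ∉ center G := fun hZ => hxc (mem_centralizer_iff.mpr fun a ha => by
    have h1 : a * x * v' = x * a * v' := by
      rw [mul_assoc, mem_center_iff.mp hZ a, mul_assoc, (hNM a ha v' hv'M).eq, ← mul_assoc]
    exact mul_right_cancel h1)
  have hCp : ¬ p ∣ C.index := fun hd => by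
    have h1 : (Nat.card S).factorization p ≤ (Nat.card C).factorization p :=
      (Nat.factorization_le_iff_dvd Nat.card_pos.ne' Nat.card_pos.ne').mpr (card_dvd_of_le hSC) p
    have h2 : (Nat.card C).factorization p + C.index.factorization p = (Nat.card G).factorization p :=
      H89.OneMMn.factorization_cz p (x * v')
    rw [hS.2, card_top, P.prime_p.factorization_pow, Finsupp.single_eq_same] at h1
    have h3 := P.prime_p.factorization_pos_of_dvd index_ne_zero_of_finite hd
    omega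
  have hCn : C.index = n := (h.toFour.cases_nc hxvZ).resolve_right fun e => by
    rcases e with e | e
    · exact hCp (e ▸ hpm)
    · exact hCp (e ▸ hpm.mul_left n)
  -- the intersection of the closures
  set D := N ⊓ M
  have hDc : ∀ a ∈ D, ∀ b ∈ D, Commute a b := fun a ha b hb => hNM b hb.1 a ha.2
  haveI : D.Normal := Subgroup.normal_inf_normal N M
  letI : CommGroup D := { (inferInstance : Group D) with
    mul_comm := fun a b => Subtype.ext (hDc a a.2 b b.2).eq }
  have hδmem : ∀ g ∈ C, x⁻¹ * (g * x * g⁻¹) ∈ D := by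
    intro g hg
    refine mem_inf.mpr ⟨mul_mem (inv_mem (mem_ncl x)) ((inferInstance : N.Normal).conj_mem x (mem_ncl x) g), ?_⟩
    have h1 : x⁻¹ * (g * x * g⁻¹) = v' * (g * v' * g⁻¹)⁻¹ := by
      have h2 : g * (x * v') * g⁻¹ = x * v' := by rw [mem_cz.mp hg, mul_inv_cancel_right]
      calc x⁻¹ * (g * x * g⁻¹) = x⁻¹ * (g * (x * v') * g⁻¹) * (g * v' * g⁻¹)⁻¹ := by group
        _ = x⁻¹ * (x * v') * (g * v' * g⁻¹)⁻¹ := by rw [h2]
        _ = _ := by group
    rw [h1]
    exact mul_mem hv'M (inv_mem ((inferInstance : M.Normal).conj_mem v' hv'M g))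
  set δ : C → D := fun g => ⟨_, hδmem g g.2⟩ with hδ_def
  let φ : C → (D →* D) := fun g =>
    { toFun := fun d => ⟨(g : G) * d * (g : G)⁻¹, (inferInstance : D.Normal).conj_mem d d.2 g⟩
      map_one' := Subtype.ext (by simp)
      map_mul' := fun a b => Subtype.ext (by simp [mul_assoc]) }
  have hDx : ∀ a ∈ D, Commute x a := fun a ha => (hNM x (mem_ncl x) a ha.2).symm
  have hcocycle : ∀ g k : C, δ (g * k) = δ g * φ g (δ k) := by
    intro g k
    refine Subtype.ext ?_
    show x⁻¹ * (((g : G) * k) * x * ((g : G) * k)⁻¹) =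
      x⁻¹ * ((g : G) * x * (g : G)⁻¹) * ((g : G) * (x⁻¹ * ((k : G) * x * (k : G)⁻¹)) * (g : G)⁻¹)
    group
  set S0 := (cz x).subgroupOf C
  haveI : Fintype (C ⧸ S0) := Fintype.ofFinite _
  have hconst : ∀ a b : C, (QuotientGroup.mk a : C ⧸ S0) = QuotientGroup.mk b → δ a = δ b := by
    intro a b hab
    have h1 : ((a⁻¹ * b : C) : G) ∈ cz x := mem_subgroupOf.mp (QuotientGroup.eq.mp hab)
    have h2 : δ (a⁻¹ * b) = 1 := Subtype.ext (by
      show x⁻¹ * (((a⁻¹ * b : C) : G) * x * ((a⁻¹ * b : C) : G)⁻¹) = 1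
      rw [mem_cz.mp h1, mul_inv_cancel_right, inv_mul_cancel])
    have h3 := hcocycle a (a⁻¹ * b)
    rw [mul_inv_cancel_left, h2, map_one, mul_one] at h3
    exact h3.symm
  set z : D := ∏ t : C ⧸ S0, δ t.out
  have hz : ∀ g : C, δ g ^ Fintype.card (C ⧸ S0) * φ g z = z := by
    intro g
    have h1 : ∀ t : C ⧸ S0, δ g * φ g (δ t.out) = δ (g • t).out := by
      intro t
      rw [← hcocycle]
      apply hconst
      rw [QuotientGroup.out_eq']
      conv_rhs => rw [← QuotientGroup.out_eq' t]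
      rfl
    rw [map_prod, ← Finset.card_univ, ← Finset.prod_const, ← Finset.prod_mul_distrib,
      Finset.prod_congr rfl fun t _ => h1 t]
    exact Equiv.prod_comp (MulAction.toPerm g) (fun t : C ⧸ S0 => δ t.out)
  have hkp : ¬ p ∣ Fintype.card (C ⧸ S0) := by
    rw [← Nat.card_eq_fintype_card, ← index_eq_card]
    intro hd
    have h1 : S0.index * C.index = (C ⊓ cz x).index := by
      rw [← relIndex_mul_index (inf_le_left : C ⊓ cz x ≤ C), inf_relIndex_left]
      rfl
    have h2 := (hd.mul_right C.index).trans (h1 ▸ index_dvd_of_le (le_inf hSC hSx))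
    have h3 : (Nat.card S).factorization p + S.index.factorization p = (Nat.card G).factorization p := by
      rw [← card_mul_index S, Nat.factorization_mul Nat.card_pos.ne' index_ne_zero_of_finite,
        Finsupp.add_apply]
    rw [hS.2, card_top, P.prime_p.factorization_pow, Finsupp.single_eq_same] at h3
    have h4 := P.prime_p.factorization_pos_of_dvd index_ne_zero_of_finite h2
    omega
  obtain ⟨i, hi⟩ := P.pel_x
  have hkcop : (Fintype.card (C ⧸ S0)).Coprime (p ^ i) :=
    ((P.prime_p.coprime_iff_not_dvd.mpr hkp).symm).pow_right i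
  obtain ⟨j, -, hj⟩ := Nat.exists_mul_mod_eq_one_of_coprime hkcop (by
    refine Nat.one_lt_pow ?_ P.prime_p.one_lt
    rintro rfl
    rw [pow_zero, orderOf_eq_one_iff] at hi
    exact hxc (hi ▸ one_mem _))
  set w : D := z ^ j
  have hw : ∀ g : C, δ g * φ g w = w := by
    intro g
    have h1 : δ g ^ p ^ i = 1 := Subtype.ext (by
      rw [SubmonoidClass.coe_pow, hδ_def]
      have hxn' : (g : G) * x * (g : G)⁻¹ ∈ N := (inferInstance : N.Normal).conj_mem x (mem_ncl x) g
      have hcm : Commute x⁻¹ ((g : G) * x * (g : G)⁻¹) := by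
        rw [show (g : G) * x * (g : G)⁻¹ = x * (x⁻¹ * ((g : G) * x * (g : G)⁻¹)) by group]
        exact ((Commute.refl x).mul_right (hDx _ (hδmem g g.2))).inv_left
      show (x⁻¹ * ((g : G) * x * (g : G)⁻¹)) ^ p ^ i = 1
      rw [hcm.mul_pow, inv_pow, ← hi, pow_orderOf_eq_one, conj_pow, pow_orderOf_eq_one]
      simp)
    have h2 : δ g ^ (Fintype.card (C ⧸ S0) * j) = δ g := by
      rw [← Nat.div_add_mod (Fintype.card (C ⧸ S0) * j) (p ^ i), hj, pow_add, pow_mul, h1, one_pow,
        one_mul, pow_one]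
    have h3 := congrArg (· ^ j) (hz g)
    simp only [mul_pow, ← pow_mul, h2, ← map_pow] at h3
    exact h3
  set x0 := x * (w : G)
  have hx0C : C ≤ cz x0 := fun g hg => by
    have h1 := congrArg Subtype.val (hw ⟨g, hg⟩)
    have h2 : x⁻¹ * (g * x * g⁻¹) * (g * (w : G) * g⁻¹) = w := h1
    refine mem_cz.mpr ?_
    calc g * (x * w) = x * (x⁻¹ * (g * x * g⁻¹) * (g * (w : G) * g⁻¹)) * g := by group
      _ = x * (w : G) * g := by rw [h2]
  have hx0Z : x0 ∉ center G := fun hZ => hxc (mem_centralizer_iff.mpr fun a ha => by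
    have h1 : a * x * (w : G) = x * a * (w : G) := by
      rw [mul_assoc, mem_center_iff.mp hZ a, mul_assoc x, mul_assoc, (hNM a ha w w.2.2).eq]
    exact mul_right_cancel h1)
  have heq : C = cz x0 := H89.eq_of_le_of_index hx0C
    (hCn.trans (h.toFour.eq_n_of_dvd hx0Z (hCn ▸ index_dvd_of_le hx0C)).symm)
  refine hv'c (mem_centralizer_iff.mpr fun a ha => ?_)
  have haC : a ∈ C := by
    rw [heq]
    exact mem_cz.mpr ((hNM x (mem_ncl x) a ha).mul_right (hNM w w.2.1 a ha)).eq
  have h1 : a * (x * v') = x * v' * a := mem_cz.mp haC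
  rw [← mul_assoc, (hNM x (mem_ncl x) a ha).eq, mul_assoc, mul_assoc] at h1
  exact mul_left_cancel h1

/-- One of the two normal closures is abelian. -/
theorem CaseB.abelian_or (h : CaseB G n m) {p q : ℕ} {x y : G} (P : IsPair G n m p q x y) :
    ncl x ≤ centralizer (ncl x : Set G) ∨ ncl y ≤ centralizer (ncl y : Set G) := by
  haveI := Fact.mk P.prime_p
  by_cases hx : x ∈ centralizer (ncl x : Set G)
  · exact Or.inl (ncl_abelian_of_mem_centralizer hx)
  by_cases hM : ∀ v ∈ ncl y, IsPEl p v → v ∈ centralizer (ncl y : Set G)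
  · exact Or.inr (h.symm.abelian_of_q_central P.symm hM)
  push Not at hM
  obtain ⟨v, hvM, hv, hvc⟩ := hM
  have hvZ : v ∉ center G := fun hZ => hvc (center_le_centralizer _ hZ)
  rcases h.toFour.cases_nc hvZ with e | e | e
  · exact (h.false_of_n P hvM hv e hvc hx).elim
  · exact absurd (h.dvd_m P.pel_x P.index_x) (h.no_m p v P.prime_p hv e)
  · exact Or.inl (h.symm.abelian_of_nm P.symm hvM hv (by rw [e, Nat.mul_comm]))

end Cfsg.Agent.H86.FourSizes
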