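import Cfsg.Agent.H86.FourSizes.Pair

/-!
# Class sizes `1`, `n`, `m`, `n m`: with `ncl x` abelian, `n` and `m` are prime powers
-/

set_option linter.style.haveILetI false

namespace Cfsg.Agent.H86.FourSizes

open Subgroup
open Cfsg.Agent.H89 (cz IsPEl IsSylowIn mem_cz self_mem_cz mem_cz_comm cz_mul)

variable {G : Type*} [Group G] [Finite G] {n m : ℕ}

theorem IsPair.ne {p q : ℕ} {x y : G} (h : CaseB G n m) (P : IsPair G n m p q x y) : p ≠ q := by
  rintro rfl
  haveI := Fact.mk P.prime_p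
  exact h.no_m p y P.prime_p P.pel_y P.index_y (h.dvd_m P.pel_x P.index_x)

omit [Finite G] in
theorem pel_of_mem_ncl {p : ℕ} {x a : G} (hx : IsPEl p x) (hab : ncl x ≤ centralizer (ncl x : Set G))
    (ha : a ∈ ncl x) : ∃ k, a ^ p ^ k = 1 := by
  obtain ⟨k, hk⟩ := hx
  refine ⟨k, ?_⟩
  have key : a ^ orderOf x = 1 := by
    induction ha using Subgroup.closure_induction with
    | mem b hb =>
      obtain ⟨x0, hx0, hconj⟩ := Group.mem_conjugatesOfSet_iff.mp hb
      rw [Set.mem_singleton_iff] at hx0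
      rw [hx0] at hconj
      obtain ⟨c, rfl⟩ := isConj_iff.mp hconj
      rw [conj_pow, pow_orderOf_eq_one, mul_one, mul_inv_cancel]
    | one => exact one_pow _
    | mul b c hb hc ihb ihc =>
      have hcomm : Commute b c := mem_centralizer_iff.mp (hab hc) b hb
      rw [hcomm.mul_pow, ihb, ihc, mul_one]
    | inv b _ ihb => rw [inv_pow, ihb, inv_one]
  rwa [hk] at key

omit [Finite G] in
theorem isPGroup_ncl {p : ℕ} {x : G} (hx : IsPEl p x) (hab : ncl x ≤ centralizer (ncl x : Set G)) :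
    IsPGroup p (ncl x) := fun a => by
  obtain ⟨k, hk⟩ := pel_of_mem_ncl hx hab a.2
  exact ⟨k, Subtype.ext hk⟩

omit [Finite G] in
theorem IsPair.ncl_le_cz_left {p q : ℕ} {x y : G} (_P : IsPair G n m p q x y)
    (hab : ncl x ≤ centralizer (ncl x : Set G)) : ncl x ≤ cz x :=
  fun _ ha => mem_cz.mpr (mem_centralizer_iff.mp (hab ha) x (mem_ncl x)).symm

omit [Finite G] in
theorem IsPair.centralizer_le {p q : ℕ} {x y : G} (_P : IsPair G n m p q x y) :
    centralizer (ncl x : Set G) ≤ cz x :=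
  fun _ ha => mem_cz.mpr (mem_centralizer_iff.mp ha x (mem_ncl x)).symm

/-- B3: the `q`-regular elements of `cz y` centralize `ncl x`. -/
theorem CaseB.regular_centralizes (h : CaseB G n m) {p q : ℕ} {x y : G} (P : IsPair G n m p q x y)
    (hab : ncl x ≤ centralizer (ncl x : Set G)) {e : G} (he : e ∈ cz y) (heq : ¬ q ∣ orderOf e) :
    e ∈ centralizer (ncl x : Set G) := by
  haveI := Fact.mk P.prime_p
  set N := ncl x
  have hNL : N ≤ cz y := P.ncl_le_cz h.toFour
  have hrel : ¬ p ∣ (cz e).relIndex (cz y) := by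
    rcases h.toFour.symm.relIndex_of_n P.index_y he (P.pel_y.coprime P.prime_q heq) with e1 | e1 <;>
      rw [e1]
    · exact P.prime_p.not_dvd_one
    · exact h.no_n p x P.prime_p P.pel_x P.index_x
  obtain ⟨S, hS, -⟩ := H89.exists_isSylowIn (IsPGroup.of_bot : IsPGroup p (⊥ : Subgroup G))
    (bot_le : ⊥ ≤ cz y ⊓ cz e)
  have hS' : IsSylowIn p S (cz y) := by
    refine ⟨hS.1.trans inf_le_left, hS.2.trans ?_⟩
    have h1 : Nat.card (cz y ⊓ cz e : Subgroup G) * (cz e).relIndex (cz y) = Nat.card (cz y) := by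
      rw [← inf_relIndex_left, ← Nat.card_congr (subgroupOfEquivOfLe
        (inf_le_left : cz y ⊓ cz e ≤ cz y)).toEquiv]
      exact card_mul_index _
    rw [← h1, Nat.factorization_mul Nat.card_pos.ne' (fun e0 : (cz e).relIndex (cz y) = 0 => hrel (by rw [e0]; exact dvd_zero p)),
      Finsupp.add_apply, Nat.factorization_eq_zero_of_not_dvd hrel, add_zero]
  have hgrp : IsPGroup p (N ⊔ S : Subgroup G) :=
    (isPGroup_ncl P.pel_x hab).to_sup_of_normal_left hS.isPGroup
  have hNS : N ≤ S := (hS'.eq_of_le hgrp le_sup_right (sup_le hNL hS'.1)).ge.trans' le_sup_left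
  exact mem_centralizer_iff.mpr fun a ha => mem_cz.mp (hS.1 (hNS ha)).2

/-- The centralizer of `x y` has index `n m`. -/
theorem IsPair.index_inf {p q : ℕ} {x y : G} (h : CaseB G n m) (P : IsPair G n m p q x y) :
    (cz x ⊓ cz y).index = n * m ∧ (cz y).relIndex (cz x) = m ∧ (cz x).relIndex (cz y) = n := by
  have hn : 0 < n := by have := h.one_lt_n; omega
  have hm : 0 < m := by have := h.one_lt_m; omega
  have hcop : (orderOf x).Coprime (orderOf y) :=
    IsPEl.coprime_pel P.prime_p P.prime_q (P.ne h) P.pel_x P.pel_y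
  have e1 : (cz x ⊓ cz y).index = n * m := by
    have hdn : n ∣ (cz x ⊓ cz y).index := P.index_x ▸ index_dvd_of_le inf_le_left
    have hdm : m ∣ (cz x ⊓ cz y).index := P.index_y ▸ index_dvd_of_le inf_le_right
    refine Nat.dvd_antisymm ?_ (h.coprime.mul_dvd_of_dvd_of_dvd hdn hdm)
    rw [← cz_mul P.comm hcop]
    exact h.toFour.index_dvd _
  refine ⟨e1, ?_, ?_⟩
  · have := centralizer_inf_index (g := x) (k := y)
    rw [e1, P.index_x] at this
    exact Nat.eq_of_mul_eq_mul_right hn (by rw [← this, Nat.mul_comm])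
  · have := centralizer_inf_index (g := y) (k := x)
    rw [inf_comm, e1, P.index_y] at this
    exact Nat.eq_of_mul_eq_mul_right hm this.symm

/-- `n` is a power of `q`. -/
theorem CaseB.n_eq_pow (h : CaseB G n m) {p q : ℕ} {x y : G} (P : IsPair G n m p q x y)
    (hab : ncl x ≤ centralizer (ncl x : Set G)) : ∃ a, n = q ^ a := by
  refine ⟨_, Nat.eq_prime_pow_of_unique_prime_dvd (by have := h.one_lt_n; omega) fun {s} hs hsn => ?_⟩
  by_contra hne
  haveI := Fact.mk hs
  obtain ⟨S⟩ := (inferInstance : Nonempty (Sylow s (cz y)))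
  refine S.not_dvd_index (hsn.trans ((P.index_inf h).2.2 ▸ index_dvd_of_le
    (H := (S : Subgroup (cz y))) (K := (cz x).subgroupOf (cz y)) ?_))
  intro e he
  obtain ⟨k, hk⟩ := H86.exists_orderOf_eq_pow_of_mem S.2 he
  refine mem_subgroupOf.mpr (P.centralizer_le (h.regular_centralizes P hab e.2 ?_))
  rw [orderOf_coe, hk]
  exact fun hd => hne ((Nat.prime_dvd_prime_iff_eq P.prime_q hs).mp (P.prime_q.dvd_of_dvd_pow hd)).symm

/-- `m` is a power of `p`. -/
theorem CaseB.m_eq_pow (h : CaseB G n m) {p q : ℕ} {x y : G} (P : IsPair G n m p q x y)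
    (hab : ncl x ≤ centralizer (ncl x : Set G)) : ∃ b, m = p ^ b := by
  refine ⟨_, Nat.eq_prime_pow_of_unique_prime_dvd (by have := h.one_lt_m; omega) fun {r} hr hrm => ?_⟩
  by_contra hrp
  haveI := Fact.mk hr
  haveI := Fact.mk P.prime_q
  have hn1 := h.one_lt_n
  have hrn : ¬ r ∣ n := h.symm.toFour.not_dvd_m hr hrm
  have hqm : ¬ q ∣ m := h.no_m q y P.prime_q P.pel_y P.index_y
  have hrq : r ≠ q := fun e => hqm (e ▸ hrm)
  have hpq := P.ne h
  obtain ⟨hDi, hyrel, hxrel⟩ := P.index_inf h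
  set N := ncl x
  set D := cz x ⊓ cz y with hD
  have hNK : N ≤ cz x := P.ncl_le_cz_left hab
  -- `p'`-elements of `cz x`
  have hrel : ∀ k ∈ cz x, ¬ p ∣ orderOf k →
      (cz k).relIndex (cz x) = 1 ∨ (cz k).relIndex (cz x) = m := fun k hk hkp =>
    h.toFour.relIndex_of_n P.index_x hk (P.pel_x.coprime P.prime_p hkp)
  have hnotp : ∀ {s : ℕ} {k : G}, s.Prime → s ≠ p → IsPEl s k → ¬ p ∣ orderOf k := by
    rintro s k hs hsp ⟨i, hi⟩ hd
    exact hsp ((Nat.prime_dvd_prime_iff_eq P.prime_p hs).mp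
      (P.prime_p.dvd_of_dvd_pow (hi ▸ hd))).symm
  have hnotq : ∀ {s : ℕ} {k : G}, s.Prime → s ≠ q → IsPEl s k → ¬ q ∣ orderOf k := by
    rintro s k hs hsq ⟨i, hi⟩ hd
    exact hsq ((Nat.prime_dvd_prime_iff_eq P.prime_q hs).mp
      (P.prime_q.dvd_of_dvd_pow (hi ▸ hd))).symm
  -- a noncentral `r`-element can be moved into `D`
  have hmove : ∀ u ∈ cz x, IsPEl r u → ¬ cz x ≤ cz u →
      ∃ c ∈ cz x, c * u * c⁻¹ ∈ D ∧ ¬ cz x ≤ cz (c * u * c⁻¹) := by
    intro u hu hur hnc
    have hui : (cz u).relIndex (cz x) = m :=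
      (hrel u hu (hnotp hr hrp hur)).resolve_left fun e => hnc (relIndex_eq_one.mp e)
    obtain ⟨S, hS, -⟩ := H89.exists_isSylowIn (IsPGroup.of_bot : IsPGroup q (⊥ : Subgroup G))
      (bot_le : ⊥ ≤ cz x ⊓ cz u)
    have hS' : IsSylowIn q S (cz x) := by
      refine ⟨hS.1.trans inf_le_left, hS.2.trans ?_⟩
      have h1 : Nat.card (cz x ⊓ cz u : Subgroup G) * (cz u).relIndex (cz x) = Nat.card (cz x) := by
        rw [← inf_relIndex_left, ← Nat.card_congr (subgroupOfEquivOfLe
          (inf_le_left : cz x ⊓ cz u ≤ cz x)).toEquiv]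
        exact card_mul_index _
      rw [← h1, hui, Nat.factorization_mul Nat.card_pos.ne' (by have := h.one_lt_m; omega),
        Finsupp.add_apply, Nat.factorization_eq_zero_of_not_dvd hqm, add_zero]
    obtain ⟨c, hc, hcy⟩ := hS'.exists_conj_mem P.pel_y P.comm
    have hcu : c⁻¹ * u * c ∈ cz x := mul_mem (mul_mem (inv_mem hc) hu) hc
    refine ⟨c⁻¹, inv_mem hc, ?_, ?_⟩
    · rw [inv_inv]
      refine ⟨hcu, mem_cz_comm.mp ?_⟩
      have h2 := (hS.1 hcy).2
      rw [← H89.conj_mem_cz_iff (c := c), conj_cancel]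
      exact h2
    · intro hle
      rw [inv_inv] at hle
      refine hnc fun g hg => ?_
      have := hle (mul_mem (mul_mem (inv_mem hc) hg) hc)
      rwa [← H89.conj_mem_cz_iff (c := c), conj_cancel, conj_cancel] at this
  -- `D` is the centralizer of such an element in `cz x`
  have hkey : ∀ z ∈ D, IsPEl r z → ¬ cz x ≤ cz z → cz x ⊓ cz z = D := by
    intro z hz hzr hnc
    have hzy : z * y ∈ cz x := mul_mem hz.1 P.comm
    have hcop : (orderOf z).Coprime (orderOf y) := IsPEl.coprime_pel hr P.prime_q hrq hzr P.pel_y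
    have hp' : ¬ p ∣ orderOf (z * y) := fun hd =>
      (P.prime_p.dvd_mul.mp (hd.trans (Commute.orderOf_mul_dvd_mul_orderOf (mem_cz.mp hz.2)))).elim
        (hnotp hr hrp hzr) (hnotp P.prime_q (Ne.symm hpq) P.pel_y)
    have hczy : cz (z * y) = cz z ⊓ cz y := cz_mul (mem_cz_comm.mp hz.2) hcop
    have h1 : (cz (z * y)).relIndex (cz x) = m := (hrel _ hzy hp').resolve_left fun e => by
      have hle := (relIndex_eq_one.mp e).trans (hczy.le.trans inf_le_left)
      exact hnc hle
    have h2 : cz x ⊓ cz (z * y) = D := by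
      refine H89.eq_of_le_of_index (inf_le_inf_left _ (hczy.le.trans inf_le_right)) ?_
      rw [centralizer_inf_index, h1, P.index_x, hDi, Nat.mul_comm]
    have h3 : D ≤ cz x ⊓ cz z := le_inf inf_le_left
      (h2.ge.trans (inf_le_right.trans (hczy.le.trans inf_le_left)))
    refine (H89.eq_of_le_of_index h3 ?_).symm
    rw [hDi, centralizer_inf_index, P.index_x,
      (hrel z hz.1 (hnotp hr hrp hzr)).resolve_left fun e => hnc (relIndex_eq_one.mp e), Nat.mul_comm]
  -- a noncentral `r`-element of `D`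
  obtain ⟨z, hzD, hzr, hznc⟩ : ∃ z ∈ D, IsPEl r z ∧ ¬ cz x ≤ cz z := by
    by_contra hcon
    push Not at hcon
    obtain ⟨S⟩ := (inferInstance : Nonempty (Sylow r (cz x)))
    refine S.not_dvd_index (hrm.trans (hyrel ▸ index_dvd_of_le
      (H := (S : Subgroup (cz x))) (K := (cz y).subgroupOf (cz x)) ?_))
    intro u hu
    obtain ⟨k, hk⟩ := H86.exists_orderOf_eq_pow_of_mem S.2 hu
    have hur : IsPEl r (u : G) := ⟨k, by rw [orderOf_coe, hk]⟩
    rw [mem_subgroupOf, mem_cz_comm]
    by_cases hle : cz x ≤ cz (u : G)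
    · exact hle P.comm
    · obtain ⟨c, hc, hcD, hcnc⟩ := hmove u u.2 hur hle
      exact absurd (hcon _ hcD (hur.conj c)) hcnc
  set C := centralizer (N : Set G)
  have hND : N ≤ D := le_inf hNK (P.ncl_le_cz h.toFour)
  -- `D` centralizes `N`
  have hDC : D ≤ C := by
    intro g hg
    refine H89.mem_of_primaryParts C g fun s hs _ => ?_
    set e := g ^ H89.primaryExp s g
    have heD : e ∈ D := pow_mem hg _
    obtain ⟨k, -, hk⟩ := (Nat.dvd_prime_pow hs).mp (H89.orderOf_primaryPart_dvd s g)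
    have hes : IsPEl s e := ⟨k, hk⟩
    by_cases hsq : s = q
    · have hze : e ∈ cz z := (hkey z hzD hzr hznc).ge.trans inf_le_right heD
      rw [hsq] at hes
      have hcz : cz (e * z) = cz e ⊓ cz z :=
        cz_mul (mem_cz_comm.mp hze) (IsPEl.coprime_pel P.prime_q hr (Ne.symm hrq) hes hzr)
      have hp' : ¬ p ∣ orderOf (e * z) := fun hd =>
        (P.prime_p.dvd_mul.mp (hd.trans (Commute.orderOf_mul_dvd_mul_orderOf (mem_cz.mp hze)))).elim
          (hnotp P.prime_q (Ne.symm hpq) hes) (hnotp hr hrp hzr)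
      have h1 : (cz (e * z)).relIndex (cz x) = m :=
        (hrel _ (mul_mem heD.1 hzD.1) hp').resolve_left fun e1 =>
          hznc ((relIndex_eq_one.mp e1).trans (hcz.le.trans inf_le_right))
      have h2 : cz x ⊓ cz (e * z) = D := by
        refine H89.eq_of_le_of_index ?_ ?_
        · rw [← hkey z hzD hzr hznc]
          exact inf_le_inf_left _ (hcz.le.trans inf_le_right)
        · rw [centralizer_inf_index, h1, P.index_x, hDi, Nat.mul_comm]
      exact mem_centralizer_iff.mpr fun a ha =>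
        mem_cz.mp ((h2.ge.trans (inf_le_right.trans (hcz.le.trans inf_le_left))) (hND ha))
    · exact h.regular_centralizes P hab heD.2 (hnotq hs hsq hes)
  -- all `r`-elements lie in `C`
  have hrC : ∀ u : G, IsPEl r u → u ∈ C := by
    intro u hu
    obtain ⟨R, hR, hRx⟩ := H89.exists_sylowTop_le (q := r) (y := x) (P.index_x ▸ hrn)
    refine pel_mem_of_normal hR ?_ hu
    intro v hv
    have hvr : IsPEl r v := IsPEl.of_mem hR.isPGroup hv
    by_cases hle : cz x ≤ cz v
    · exact mem_centralizer_iff.mpr fun a ha => mem_cz.mp (hle (hNK ha))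
    · obtain ⟨c, hc, hcD, -⟩ := hmove v (hRx hv) hvr hle
      simpa [mul_assoc] using (inferInstance : C.Normal).conj_mem _ (hDC hcD) c⁻¹
  have hrK : ∀ u : G, IsPEl r u → u ∈ cz x := fun u hu => P.centralizer_le (hrC u hu)
  -- a `q`-element outside `C`
  obtain ⟨e, heq, heC⟩ : ∃ e : G, IsPEl q e ∧ e ∉ C := by
    by_contra hcon
    push Not at hcon
    obtain ⟨Q⟩ := (inferInstance : Nonempty (Sylow q G))
    have hqn : q ∣ n := h.symm.dvd_m P.pel_y P.index_y
    exact Q.not_dvd_index (hqn.trans (P.index_x ▸ index_dvd_of_le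
      (fun a ha => P.centralizer_le (hcon a (IsPEl.of_mem Q.2 ha)))))
  -- a noncentral `r`-element commuting with it
  obtain ⟨d, hde, hdr, hdnc⟩ : ∃ d ∈ cz e, IsPEl r d ∧ ¬ cz x ≤ cz d := by
    by_contra hcon
    push Not at hcon
    obtain ⟨S, hS, -⟩ := H89.exists_isSylowIn (IsPGroup.of_bot : IsPGroup r (⊥ : Subgroup G))
      (bot_le : ⊥ ≤ cz e)
    have hSD : ∀ u ∈ S, u ∈ D ∧ cz x ≤ cz u := fun u hu => by
      have hle := hcon u (hS.1 hu) (IsPEl.of_mem hS.isPGroup hu)
      exact ⟨⟨hrK u (IsPEl.of_mem hS.isPGroup hu), mem_cz_comm.mp (hle P.comm)⟩, hle⟩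
    have hj : S ⊔ zpowers z ≤ D :=
      sup_le (fun u hu => (hSD u hu).1) (zpowers_le.mpr hzD)
    have hn' : zpowers z ≤ normalizer (S : Set G) := H20.le_normalizer_of_le_centralizer
      (zpowers_le.mpr (mem_centralizer_iff.mpr fun u hu => (mem_cz.mp ((hSD u hu).2 hzD.1)).symm))
    have hgrp : IsPGroup r (S ⊔ zpowers z : Subgroup G) :=
      hS.isPGroup.to_sup_of_normal_left' hzr.isPGroup_zpowers hn'
    have hcard := H89.card_dvd_ordProj hgrp hj
    have hle : (Nat.card D).factorization r ≤ (Nat.card (cz e)).factorization r := by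
      have h1 := congrArg (fun k => k.factorization r) D.card_mul_index
      have h2 := H89.OneMMn.factorization_cz r e
      simp only [Nat.factorization_mul Nat.card_pos.ne' index_ne_zero_of_finite,
        Finsupp.add_apply] at h1
      have h3 : (cz e).index.factorization r ≤ D.index.factorization r :=
        (Nat.factorization_le_iff_dvd index_ne_zero_of_finite index_ne_zero_of_finite).mpr
          (hDi ▸ h.toFour.index_dvd e) r
      omega
    have heqS : S = S ⊔ zpowers z := Subgroup.eq_of_le_of_card_ge le_sup_left (by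
      rw [hS.2]
      exact (Nat.le_of_dvd (pow_pos hr.pos _) hcard).trans (Nat.pow_le_pow_right hr.pos hle))
    exact hznc (hSD z (heqS.ge (mem_sup_right (mem_zpowers z)))).2
  have hdK := hrK d hdr
  have hdC : cz x ⊓ cz d ≤ C := by
    obtain ⟨c, hc, hcD, hcnc⟩ := hmove d hdK hdr hdnc
    intro g hg
    have h1 : c * g * c⁻¹ ∈ cz x ⊓ cz (c * d * c⁻¹) :=
      mem_inf.mpr ⟨mul_mem (mul_mem hc hg.1) (inv_mem hc), H89.conj_mem_cz_iff.mpr hg.2⟩
    rw [hkey _ hcD (hdr.conj c) hcnc] at h1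
    simpa [mul_assoc] using (inferInstance : C.Normal).conj_mem _ (hDC h1) c⁻¹
  have hdrel : (cz d).relIndex (cz x) = m :=
    (hrel d hdK (hnotp hr hrp hdr)).resolve_left fun e1 => hdnc (relIndex_eq_one.mp e1)
  have hdZ : d ∉ center G := fun hZ => hdnc ((H89.cz_eq_top_iff.mpr hZ).ge.trans' le_top)
  rcases h.toFour.cases_nc hdZ with e1 | e1 | e1
  · obtain ⟨R, hR, hRd⟩ := H89.exists_sylowTop_le (q := r) (y := d) (e1 ▸ hrn)
    have h1 : (cz x ⊓ cz d).index ∣ R.index :=
      index_dvd_of_le (le_inf (fun a ha => hrK a (IsPEl.of_mem hR.isPGroup ha)) hRd)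
    rw [centralizer_inf_index, hdrel, P.index_x] at h1
    have h3 := congrArg (fun k => k.factorization r) R.card_mul_index
    simp only [Nat.factorization_mul Nat.card_pos.ne' index_ne_zero_of_finite,
      Finsupp.add_apply] at h3
    rw [hR.2, card_top, hr.factorization_pow, Finsupp.single_eq_same] at h3
    have h4 := hr.factorization_pos_of_dvd index_ne_zero_of_finite ((hrm.mul_right n).trans h1)
    omega
  · exact h.no_m r d hr hdr e1 hrm
  · have heq' : cz x ⊓ cz d = cz d := H89.eq_of_le_of_index inf_le_right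
      (by rw [centralizer_inf_index, hdrel, P.index_x, e1, Nat.mul_comm])
    exact heC (hdC (heq'.ge (mem_cz_comm.mp hde)))

end Cfsg.Agent.H86.FourSizes
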